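import Cfsg.Agent.StdAlt.Six.Ident
import Cfsg.Agent.StdAlt.Main

/-!
# The theorem for degree six
-/

set_option autoImplicit false
set_option linter.unusedSectionVars false

namespace Cfsg.Agent.StdAlt.Six

open Equiv Equiv.Perm Subgroup Cfsg.Agent.StdAlt.Conj
open Cfsg.Agent.StdAlt.PermTypes (cyc)
open Cfsg.Agent.StdAlt.Roots (IsRoot)

variable {G : Type*} [Group G] [Finite G] {A B : Subgroup G}

/-- labelling of a conjugate -/
noncomputable def cjEquiv (e : A6 ≃* A) (x : G) : A6 ≃* (Conj.cj x A : Subgroup G) :=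
  e.trans (A.equivMapOfInjective (MulAut.conj x).toMonoidHom (MulAut.conj x).injective)

theorem emb_cjEquiv (e : A6 ≃* A) (x : G) (a : A6) : emb (cjEquiv e x) a = x * emb e a * x⁻¹ := rfl

theorem two_of_good (hA : TE A) (e : A6 ≃* A) (hB : Cj A B) (hne : A ≠ B)
    (h4 : 4 ∣ Nat.card ↥(C A ⊓ N B)) : Two A B := by
  have hBt := hA.of_cj hB
  obtain ⟨x, hx⟩ := hB.exists_eq
  obtain ⟨e'⟩ : Nonempty (A6 ≃* B) := by
    rw [hx]; exact ⟨cjEquiv e x⟩
  obtain ⟨u, hu, huA, hu1, huu⟩ := p6 hBt hB.symm (Ne.symm hne) e' h4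
  have h1 : C B ≤ N A := fun j hj => hA.nrm huA hu1 huu (comm_of_C hj hu)
  have h4' : 4 ∣ Nat.card ↥(C B ⊓ N A) := by
    rw [inf_eq_left.2 h1, ← hB.card_C]
    exact h4.trans (card_dvd_of_le inf_le_left)
  obtain ⟨v, hv, hvB, hv1, hvv⟩ := p6 hA hB hne e h4'
  exact ⟨hA, hB, hne, fun j hj => hBt.nrm hvB hv1 hvv (comm_of_C hj hv), h1⟩

/-- exceptional automorphisms on a conjugate -/
theorem nosw_cj {e : A6 ≃* A} (h : ∀ g, ¬ Sw e g) (x : G) (e' : A6 ≃* (Conj.cj x A : Subgroup G)) :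
    ∀ g, ¬ Sw e' g := by
  intro g hg
  rw [sw_iff e' (cjEquiv e x)] at hg
  obtain ⟨α, hα, hns⟩ := hg
  refine h (x⁻¹ * g * x) ⟨α, fun a => ?_, hns⟩
  have h1 := hα a
  rw [emb_cjEquiv, emb_cjEquiv] at h1
  calc x⁻¹ * g * x * emb e a * (x⁻¹ * g * x)⁻¹ = x⁻¹ * (g * (x * emb e a * x⁻¹) * g⁻¹) * x := by
        group
    _ = emb e (α a) := by rw [h1]; group

/-- if there is a four-group on one side, there is one on the other side -/
theorem vp_symm (h : Two A B) (e : A6 ≃* A) (hF : Two.HasFour A) (hV : VP A B) : VP B A := by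
  have hns := nosw h e hV
  obtain ⟨x, hx⟩ := h.cj.exists_eq
  subst hx
  set e' := cjEquiv e x
  have hns' := nosw_cj hns x e'
  obtain ⟨u, hu, huA, hu1, huu⟩ := p6 h.teB h.cj.symm h.ne.symm e' (by
    rw [inf_eq_left.2 h.leB]; exact Main.four_dvd_of_hasFour hF)
  obtain ⟨v, hv, v', hv', k1, k2, k3, k4, k5, k6⟩ := hF
  obtain ⟨y, hy, hy1, hyy, hyu, hyne⟩ := exists_comm_inv hv hv' k1 k2 k3 k4 k5 k6 huA hu1 huu
  rcases mt h.symm e' hu huA hu1 huu hy hy1 hyy hyu hyne with hV' | ⟨hsw, -⟩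
  · exact hV'
  · exact absurd hsw (hns' y)

/-- **a pair in standard position** -/
theorem exists_sd (h : Two A B) (e : A6 ≃* A) (hF : Two.HasFour A) : Nonempty (SD A B) := by
  obtain ⟨x, hx⟩ := h.cj.exists_eq
  have e' : A6 ≃* B := by rw [hx]; exact cjEquiv e x
  have hV : VP A B ∧ VP B A := by
    rcases exists_vp h e e' hF with h1 | h1
    · exact ⟨h1, vp_symm h e hF h1⟩
    · exact ⟨vp_symm h.symm e' (hF.of_cj h.cj) h1, h1⟩
  obtain ⟨L, hL⟩ := exists_lab h e hV.1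
  obtain ⟨L', hL'⟩ := exists_lab h.symm e' hV.2
  exact ⟨⟨h, L, L', hL, hL'⟩⟩

theorem isRoot_of_inv {σ : Perm (Fin 6)} (h1 : Perm.sign σ = 1) (h2 : σ * σ = 1) (h3 : σ ≠ 1) :
    IsRoot σ := ⟨h2, root_of_inv σ h1 h2 h3⟩

theorem not_four4 : ∀ i : Fin 6, i ∉ four4 (0 : Fin 6) 1 2 3 → i = 4 ∨ i = 5 := by
  unfold four4; decide

/-- the input of the identification -/
theorem exists_data (D : SD A B) (e : A6 ≃* A) (hs : IsSimpleGroup A) :
    Nonempty (Final.Data A B (Fin 6) (Fin 6)) := by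
  obtain ⟨i₀, v, hv, hvφ, hcomm⟩ := D.exists_root e
  have h45 : (4 : Fin 6) ∉ four4 (0 : Fin 6) 1 2 3 := by unfold four4; decide
  refine ⟨⟨D.te, hs, D.two.cj, D.L, D.L', by simp, by simp, 0, 1, 2, 3, 0, 1, 2, 3, by decide,
    by decide, D.vl.2, ?_, i₀, 4, h45, v, hv, hvφ, hcomm, ?_, ?_, ?_⟩⟩
  · intro y hy he hm
    refine D.symm.mem_C_of_QQ hy ⟨mem_alternatingGroup.1 he, hm 4 h45, hm 5 ?_⟩
    unfold four4; decide
  · intro p hp hp4
    obtain rfl : p = 5 := by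
      rcases not_four4 p hp with h | h
      · exact absurd h hp4
      · exact h
    obtain ⟨h, hh, -, hhB, hhφ⟩ := D.exists_h
    refine ⟨h, hh, hhB, ?_, ?_, ?_⟩ <;> rw [hhφ] <;> decide +kernel
  · obtain ⟨h, hh, hhφ, hhA, hh45⟩ := D.symm.exists_h
    refine ⟨h, hh, hhA, fun hC => ?_⟩
    have h1 : D.L.φ h = 1 := D.L.of_C hC
    have h2 : D.L.φ h = s45 := hh45
    rw [h1] at h2
    exact (by decide +kernel : (1 : Perm (Fin 6)) ≠ s45) h2
  · intro A' hA' hne h4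
    have htwo := two_of_good D.te e hA' (Ne.symm hne) h4
    have h4A : 4 ∣ Nat.card (C A) := h4.trans (card_dvd_of_le inf_le_left)
    obtain ⟨x, hx, hxC, hx1, hxx⟩ := p6 D.te hA' (Ne.symm hne) e (by
      rw [inf_eq_left.2 htwo.leA, ← hA'.card_C]; exact h4A)
    refine ⟨x, hx, hxC, isRoot_of_inv (mem_alternatingGroup.1 (D.L.even x hx)) ?_ ?_⟩
    · rw [← D.L.mul _ _ (le_N hx) (le_N hx), hxx, D.L.one]
    · exact fun h => hx1 (D.L.eq_one D.te hx h)

/-- **The theorem for degree six.** -/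
theorem normal_or_six (hA : TE A) (e : A ≃* alternatingGroup (Fin 6)) (hF : Two.HasFour A)
    (hcomm : First.CommHalf G) :
    A.Normal ∨ ∃ L₀ : Subgroup G, L₀.Normal ∧ A ≤ L₀ ∧
      Nonempty (L₀ ≃* alternatingGroup (Fin 10)) := by
  have hs := Main.simple_of_equiv (by norm_num) e
  have e' : A6 ≃* A := e.symm
  rcases First.normal_or_good hA hs hcomm (outer hA e') (Main.four_dvd_of_hasFour hF)
    (emb_mem e' Z0) (emb_ne Z0_ne) (emb_sq Z0_sq) with h | ⟨B, hB, hne, h4⟩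
  · exact Or.inl h
  · right
    obtain ⟨D⟩ := exists_sd (two_of_good hA e' hB hne h4) e' hF
    obtain ⟨E⟩ := exists_data D e' hs
    obtain ⟨L₀, h1, h2, h3⟩ := E.main
    rw [Fintype.card_fin] at h3
    exact ⟨L₀, h1, h2, h3⟩

end Cfsg.Agent.StdAlt.Six
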