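import Cfsg.Agent.StdAlt.Six.Aut
import Cfsg.Agent.StdAlt.Carm

/-!
# Automorphisms of `A_6`: those not induced by permutations
-/

set_option autoImplicit false

namespace Cfsg.Agent.StdAlt.Six

open Equiv Equiv.Perm Subgroup

theorem val_mul (x y : A6) : ((x * y : A6) : Perm (Fin 6)) = x * y := rfl
theorem val_inv (x : A6) : ((x⁻¹ : A6) : Perm (Fin 6)) = (x : Perm (Fin 6))⁻¹ := rfl
theorem val_one : ((1 : A6) : Perm (Fin 6)) = 1 := rfl
theorem sign_val (x : A6) : Perm.sign (x : Perm (Fin 6)) = 1 := Equiv.Perm.mem_alternatingGroup.1 x.2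

theorem mv_conj' (w x : A6) : mv ((w * x * w⁻¹ : A6) : Perm (Fin 6)) = mv x := mv_conj w x

theorem cube_map {α : MulAut A6} {x : A6} (h : x * x * x = 1) : α x * α x * α x = 1 := by
  rw [← map_mul, ← map_mul, h, map_one]

theorem ne_map {α : MulAut A6} {x : A6} (h : x ≠ 1) : α x ≠ 1 := by
  intro h'; exact h (α.injective (by rw [h', map_one]))

/-- elements of order three that are not three-cycles are conjugate -/
theorem conj_of_six {x y : A6} (hx : x * x * x = 1) (hx1 : x ≠ 1) (hx3 : mv x ≠ 3) (hy : y * y * y = 1)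
    (hy1 : y ≠ 1) (hy3 : mv y ≠ 3) : ∃ w : A6, w * x * w⁻¹ = y := by
  have hx' : ∃ w : A6, w * ⟨t0, t0_mem⟩ * w⁻¹ = x := by
    rcases cube_cases x (congrArg Subtype.val hx) (fun h => hx1 (Subtype.ext h)) with h | ⟨-, w, hw, h⟩
    · exact absurd h hx3
    · refine ⟨⟨w, Equiv.Perm.mem_alternatingGroup.2 hw⟩, Subtype.ext ?_⟩
      show w * t0 * w⁻¹ = x
      rw [h]; group
  have hy' : ∃ w : A6, w * ⟨t0, t0_mem⟩ * w⁻¹ = y := by
    rcases cube_cases y (congrArg Subtype.val hy) (fun h => hy1 (Subtype.ext h)) with h | ⟨-, w, hw, h⟩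
    · exact absurd h hy3
    · refine ⟨⟨w, Equiv.Perm.mem_alternatingGroup.2 hw⟩, Subtype.ext ?_⟩
      show w * t0 * w⁻¹ = y
      rw [h]; group
  obtain ⟨w, hw⟩ := hx'
  obtain ⟨v, hv⟩ := hy'
  refine ⟨v * w⁻¹, ?_⟩
  rw [← hw, ← hv]; group

theorem ns_of_mv_three {α : MulAut A6} {x : A6} (hx : mv x = 3) (h : mv (α x) = 3) : NS α :=
  ns_of_three ((three_iff _).1 hx) ((three_iff _).1 h)

theorem c0_cube : c0 * c0 * c0 = 1 := by decide +kernel
theorem c0_ne : c0 ≠ 1 := by decide +kernel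
theorem mv_c0 : mv c0 = 3 := by decide +kernel
theorem d0_cube : d0 * d0 * d0 = 1 := by decide +kernel
theorem d0_ne : d0 ≠ 1 := by decide +kernel
theorem mv_d0 : mv d0 = 6 := by decide +kernel

/-- `c0` as an element of `A6` -/
def C0 : A6 := ⟨c0, c0_mem⟩
/-- `d0` as an element of `A6` -/
def D0 : A6 := ⟨d0, d0_mem⟩
/-- `z0` as an element of `A6` -/
def Z0 : A6 := ⟨z0, z0_mem⟩
/-- `a0` as an element of `A6` -/
def A0 : A6 := ⟨a0, a0_mem⟩
/-- `b0` as an element of `A6` -/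
def B0 : A6 := ⟨b0, b0_mem⟩
/-- `f0` as an element of `A6` -/
def F0 : A6 := ⟨f0, f0_mem⟩

theorem C0_cube : C0 * C0 * C0 = 1 := Subtype.ext c0_cube
theorem C0_ne : C0 ≠ 1 := fun h => c0_ne (congrArg Subtype.val h)
theorem D0_cube : D0 * D0 * D0 = 1 := Subtype.ext d0_cube
theorem D0_ne : D0 ≠ 1 := fun h => d0_ne (congrArg Subtype.val h)

/-- an automorphism mapping an element with six moved points of order three to such an element is induced by a
permutation -/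
theorem ns_of_mv_six {α : MulAut A6} {x : A6} (hx : x * x * x = 1) (hx1 : x ≠ 1) (hx3 : mv x ≠ 3)
    (h : mv (α x) ≠ 3) : NS α := by
  by_contra hns
  have h1 : mv (α C0) ≠ 3 := fun h' => hns (ns_of_mv_three mv_c0 h')
  obtain ⟨w, hw⟩ := conj_of_six (cube_map (α := α) hx) (ne_map hx1) h (cube_map (α := α) C0_cube)
    (ne_map C0_ne) h1
  obtain ⟨v, rfl⟩ := α.surjective w
  rw [← map_mul, ← map_inv, ← map_mul] at hw
  have h2 := α.injective hw
  apply hx3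
  rw [← mv_conj' v x, h2]
  exact mv_c0

/-- the product of two automorphisms not induced by permutations is induced by a permutation -/
theorem NS.mul_of_not {α β : MulAut A6} (hα : ¬ NS α) (hβ : ¬ NS β) : NS (α * β) := by
  have h1 : mv (β C0) ≠ 3 := fun h => hβ (ns_of_mv_three mv_c0 h)
  have h2 : mv (α (β C0)) = 3 := by
    by_contra h
    exact hα (ns_of_mv_six (cube_map C0_cube) (ne_map C0_ne) h1 h)
  exact ns_of_mv_three (x := C0) mv_c0 (by rw [MulAut.mul_apply]; exact h2)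

theorem not_ns_mul_left {α β : MulAut A6} (hα : NS α) (hβ : ¬ NS β) : ¬ NS (α * β) := by
  intro h
  have := hα.inv.mul h
  rw [inv_mul_cancel_left] at this
  exact hβ this

theorem not_ns_mul_right {α β : MulAut A6} (hα : ¬ NS α) (hβ : NS β) : ¬ NS (α * β) := by
  intro h
  have := h.mul hβ.inv
  rw [mul_inv_cancel_right] at this
  exact hα this

/-- (a2) an automorphism preserving the centralizer of an odd involution is induced by a permutation -/
theorem ns_of_odd {α : MulAut A6} {σ : Perm (Fin 6)} (hσ : Perm.sign σ = -1) (hσσ : σ * σ = 1)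
    (h : ∀ x : A6, (x : Perm (Fin 6)) * σ = σ * x → (α x : Perm (Fin 6)) * σ = σ * α x) : NS α := by
  obtain ⟨c, hc, hc1, hcσ, hall⟩ := odd_inv σ hσ hσσ
  have hce : c ∈ alternatingGroup (Fin 6) := by
    rw [Equiv.Perm.mem_alternatingGroup]
    have h1 : Perm.sign c * Perm.sign c * Perm.sign c = 1 := by
      rw [← Perm.sign_mul, ← Perm.sign_mul, hc, Perm.sign_one]
    rcases Int.units_eq_one_or (Perm.sign c) with h2 | h2
    · exact h2
    · rw [h2] at h1; exact absurd h1 (by decide)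
  set C : A6 := ⟨c, hce⟩ with hC
  have hCc : C * C * C = 1 := Subtype.ext hc
  have hC1 : C ≠ 1 := fun h => hc1 (congrArg Subtype.val h)
  have h1 := hall (α C) (congrArg Subtype.val (cube_map (α := α) hCc))
    (fun h => ne_map hC1 (Subtype.ext h)) (h C hcσ)
  by_cases h3 : mv c = 3
  · exact ns_of_mv_three (x := C) h3 (by rw [h1, h3])
  · exact ns_of_mv_six (x := C) hCc hC1 h3 (by rw [h1]; exact h3)

theorem conjV_c0 : c0 * z0 * c0⁻¹ = a0 ∧ c0 * a0 * c0⁻¹ = a0 * z0 := by decide +kernel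

theorem conjV_d0 : d0 * z0 * d0⁻¹ = b0 * z0 ∧ d0 * b0 * d0⁻¹ = z0 := by decide +kernel

theorem Z0_sq : Z0 * Z0 = 1 := Subtype.ext (by decide +kernel : z0 * z0 = 1)
theorem A0_sq : A0 * A0 = 1 := Subtype.ext (by decide +kernel : a0 * a0 = 1)
theorem B0_sq : B0 * B0 = 1 := Subtype.ext (by decide +kernel : b0 * b0 = 1)
theorem Z0_ne : Z0 ≠ 1 := fun h => (by decide +kernel : z0 ≠ 1) (congrArg Subtype.val h)
theorem A0_ne : A0 ≠ 1 := fun h => (by decide +kernel : a0 ≠ 1) (congrArg Subtype.val h)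
theorem B0_ne : B0 ≠ 1 := fun h => (by decide +kernel : b0 ≠ 1) (congrArg Subtype.val h)
theorem A0_ne_Z0 : A0 ≠ Z0 := fun h => (by decide +kernel : a0 ≠ z0) (congrArg Subtype.val h)
theorem B0_ne_Z0 : B0 ≠ Z0 := fun h => (by decide +kernel : b0 ≠ z0) (congrArg Subtype.val h)
theorem A0_Z0 : A0 * Z0 = Z0 * A0 := Subtype.ext (by decide +kernel : a0 * z0 = z0 * a0)
theorem B0_Z0 : B0 * Z0 = Z0 * B0 := Subtype.ext (by decide +kernel : b0 * z0 = z0 * b0)
theorem F0_Z0 : F0 * Z0 = Z0 * F0 := Subtype.ext (by decide +kernel : f0 * z0 = z0 * f0)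

/-- the centralizer of `Z0` -/
theorem cases_cent {w : A6} (h : w * Z0 = Z0 * w) :
    w = 1 ∨ w = Z0 ∨ w = A0 ∨ w = A0 * Z0 ∨ w = B0 ∨ w = B0 * Z0 ∨ w = F0 ∨ w = F0 * Z0 := by
  rcases cent_z0 w (sign_val w) (congrArg Subtype.val h) with h | h | h | h | h | h | h | h
  · exact Or.inl (Subtype.ext h)
  · exact Or.inr (Or.inl (Subtype.ext h))
  · exact Or.inr (Or.inr (Or.inl (Subtype.ext h)))
  · exact Or.inr (Or.inr (Or.inr (Or.inl (Subtype.ext h))))
  · exact Or.inr (Or.inr (Or.inr (Or.inr (Or.inl (Subtype.ext h)))))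
  · exact Or.inr (Or.inr (Or.inr (Or.inr (Or.inr (Or.inl (Subtype.ext h))))))
  · exact Or.inr (Or.inr (Or.inr (Or.inr (Or.inr (Or.inr (Or.inl (Subtype.ext h)))))))
  · exact Or.inr (Or.inr (Or.inr (Or.inr (Or.inr (Or.inr (Or.inr (Subtype.ext h)))))))

/-- the involutions commuting with `Z0` -/
theorem cases_inv {w : A6} (h : w * Z0 = Z0 * w) (h2 : w * w = 1) (h1 : w ≠ 1) (hz : w ≠ Z0) :
    w = A0 ∨ w = A0 * Z0 ∨ w = B0 ∨ w = B0 * Z0 := by
  rcases cases_cent h with h | h | h | h | h | h | h | h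
  · exact absurd h h1
  · exact absurd h hz
  · exact Or.inl h
  · exact Or.inr (Or.inl h)
  · exact Or.inr (Or.inr (Or.inl h))
  · exact Or.inr (Or.inr (Or.inr h))
  · rw [h] at h2
    exact absurd (congrArg Subtype.val h2) (by decide +kernel : f0 * f0 ≠ 1)
  · rw [h] at h2
    exact absurd (congrArg Subtype.val h2) (by decide +kernel : f0 * z0 * (f0 * z0) ≠ 1)

theorem ns_of_a0 {α : MulAut A6} (hz : α Z0 = Z0) (ha : α A0 = A0 ∨ α A0 = A0 * Z0) : NS α := by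
  have h1 : C0 * Z0 * C0⁻¹ = A0 := Subtype.ext conjV_c0.1
  have h2 : C0 * A0 * C0⁻¹ = A0 * Z0 := Subtype.ext conjV_c0.2
  have h3 : α C0 * Z0 * (α C0)⁻¹ = α A0 := by
    rw [← h1, map_mul, map_mul, map_inv, hz]
  have h4 : α C0 * α A0 * (α C0)⁻¹ = α A0 * Z0 := by
    rw [← map_inv, ← map_mul, ← map_mul, h2, map_mul, hz]
  have h5 := norm_V (α C0) (congrArg Subtype.val (cube_map C0_cube))
    (fun h => ne_map (α := α) C0_ne (Subtype.ext h))
  have e3 := congrArg Subtype.val h3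
  have e4 := congrArg Subtype.val h4
  have hzz : ((Z0 : A6) : Perm (Fin 6)) * Z0 = 1 := congrArg Subtype.val Z0_sq
  apply ns_of_mv_three (x := C0) mv_c0
  rcases ha with ha | ha
  · apply h5
    · right; left
      refine e3.trans ?_
      rw [ha]; rfl
    · right; right
      rw [ha] at e4
      exact e4
  · have e5 : (α C0 : Perm (Fin 6)) * (a0 * z0) * (α C0 : Perm (Fin 6))⁻¹ = a0 * z0 * z0 := by
      rw [ha] at e4
      exact e4
    have e6 : (α C0 : Perm (Fin 6)) * z0 * (α C0 : Perm (Fin 6))⁻¹ = a0 * z0 := by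
      rw [ha] at e3
      exact e3
    apply h5
    · right; right
      exact e6
    · left
      have e7 : (α C0 : Perm (Fin 6)) * a0 * (α C0 : Perm (Fin 6))⁻¹ =
          ((α C0 : Perm (Fin 6)) * (a0 * z0) * (α C0 : Perm (Fin 6))⁻¹) *
          ((α C0 : Perm (Fin 6)) * z0 * (α C0 : Perm (Fin 6))⁻¹)⁻¹ := by group
      rw [e7, e5, e6]
      have : a0 * z0 * z0 * (a0 * z0)⁻¹ = z0 := by decide +kernel
      exact this

theorem ns_of_b0 {α : MulAut A6} (hz : α Z0 = Z0) (hb : α B0 = B0 ∨ α B0 = B0 * Z0) : NS α := by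
  have h1 : D0 * Z0 * D0⁻¹ = B0 * Z0 := Subtype.ext conjV_d0.1
  have h2 : D0 * B0 * D0⁻¹ = Z0 := Subtype.ext conjV_d0.2
  have h3 : α D0 * Z0 * (α D0)⁻¹ = α B0 * Z0 := by
    have := congrArg α h1
    rw [map_mul, map_mul, map_inv, hz, map_mul, hz] at this
    exact this
  have h4 : α D0 * α B0 * (α D0)⁻¹ = Z0 := by
    rw [← map_inv, ← map_mul, ← map_mul, h2, hz]
  have h5 := norm_V' (α D0) (congrArg Subtype.val (cube_map D0_cube))
    (fun h => ne_map (α := α) D0_ne (Subtype.ext h))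
  have e3 := congrArg Subtype.val h3
  have e4 := congrArg Subtype.val h4
  have key : mv (α D0) = 6 := by
    rcases hb with hb | hb
    · rw [hb] at e3 e4
      apply h5
      · right; right
        exact e3
      · left
        exact e4
    · have e5 : (α D0 : Perm (Fin 6)) * (b0 * z0) * (α D0 : Perm (Fin 6))⁻¹ = z0 := by
        rw [hb] at e4
        exact e4
      have e6 : (α D0 : Perm (Fin 6)) * z0 * (α D0 : Perm (Fin 6))⁻¹ = b0 * z0 * z0 := by
        rw [hb] at e3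
        exact e3
      have e8 : b0 * z0 * z0 = b0 := by decide +kernel
      rw [e8] at e6
      apply h5
      · right; left
        exact e6
      · right; right
        have e7 : (α D0 : Perm (Fin 6)) * b0 * (α D0 : Perm (Fin 6))⁻¹ =
            ((α D0 : Perm (Fin 6)) * (b0 * z0) * (α D0 : Perm (Fin 6))⁻¹) *
            ((α D0 : Perm (Fin 6)) * z0 * (α D0 : Perm (Fin 6))⁻¹)⁻¹ := by group
        rw [e7, e5, e6]
        have : z0 * b0⁻¹ = b0 * z0 := by decide +kernel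
        exact this
  exact ns_of_mv_six (x := D0) D0_cube D0_ne (by rw [show mv (D0 : A6) = 6 from mv_d0]; decide)
    (by rw [key]; decide)

theorem map_inv_cases {α : MulAut A6} (hz : α Z0 = Z0) {w : A6} (hw : w * Z0 = Z0 * w)
    (h2 : w * w = 1) (h1 : w ≠ 1) (hwz : w ≠ Z0) :
    α w = A0 ∨ α w = A0 * Z0 ∨ α w = B0 ∨ α w = B0 * Z0 := by
  apply cases_inv
  · rw [← hz, ← map_mul, hw, map_mul]
  · rw [← map_mul, h2, map_one]
  · exact ne_map h1
  · intro h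
    rw [← hz] at h
    exact hwz (α.injective h)

theorem cases_a0 {α : MulAut A6} (hz : α Z0 = Z0) (h : ¬ NS α) : α A0 = B0 ∨ α A0 = B0 * Z0 := by
  rcases map_inv_cases hz A0_Z0 A0_sq A0_ne A0_ne_Z0 with h1 | h1 | h1 | h1
  · exact absurd (ns_of_a0 hz (Or.inl h1)) h
  · exact absurd (ns_of_a0 hz (Or.inr h1)) h
  · exact Or.inl h1
  · exact Or.inr h1

theorem cases_b0 {α : MulAut A6} (hz : α Z0 = Z0) (h : ¬ NS α) : α B0 = A0 ∨ α B0 = A0 * Z0 := by
  rcases map_inv_cases hz B0_Z0 B0_sq B0_ne B0_ne_Z0 with h1 | h1 | h1 | h1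
  · exact Or.inl h1
  · exact Or.inr h1
  · exact absurd (ns_of_b0 hz (Or.inl h1)) h
  · exact absurd (ns_of_b0 hz (Or.inr h1)) h

/-- an element of order four inverted by an automorphism of order two not induced by a permutation -/
theorem exists_f {α : MulAut A6} (hz : α Z0 = Z0) (h : ¬ NS α) (hαα : ∀ x, α (α x) = x) :
    ∃ f : A6, f = A0 * (α A0)⁻¹ ∧ f * f = Z0 ∧ α f = f⁻¹ ∧ f * Z0 = Z0 * f := by
  refine ⟨A0 * (α A0)⁻¹, rfl, ?_, ?_, ?_⟩
  · rcases cases_a0 hz h with h1 | h1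
    · rw [h1]
      exact Subtype.ext (by decide +kernel : a0 * b0⁻¹ * (a0 * b0⁻¹) = z0)
    · rw [h1]
      exact Subtype.ext (by decide +kernel : a0 * (b0 * z0)⁻¹ * (a0 * (b0 * z0)⁻¹) = z0)
  · rw [map_mul, map_inv, hαα, mul_inv_rev, inv_inv]
  · rcases cases_a0 hz h with h1 | h1
    · rw [h1]
      exact Subtype.ext (by decide +kernel : a0 * b0⁻¹ * z0 = z0 * (a0 * b0⁻¹))
    · rw [h1]
      exact Subtype.ext (by decide +kernel : a0 * (b0 * z0)⁻¹ * z0 = z0 * (a0 * (b0 * z0)⁻¹))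

/-- an automorphism fixing the centralizer of `Z0` pointwise -/
theorem act_of_fix {α : MulAut A6} (h : ∀ x : A6, x * Z0 = Z0 * x → α x = x) :
    ∃ σ : Perm (Fin 6), (σ = 1 ∨ σ = z0 ∨ σ = s45 ∨ σ = s45 * z0) ∧
      ∀ x : A6, (α x : Perm (Fin 6)) = σ * x * σ⁻¹ := by
  obtain ⟨σ, hσ⟩ := ns_of_a0 (h Z0 rfl) (Or.inl (h A0 A0_Z0))
  refine ⟨σ, cent_P σ ?_ ?_, hσ⟩
  · have := hσ F0
    rw [h F0 F0_Z0] at this
    rw [eq_mul_inv_iff_mul_eq] at this
    exact this.symm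
  · have := hσ A0
    rw [h A0 A0_Z0] at this
    rw [eq_mul_inv_iff_mul_eq] at this
    exact this.symm

theorem inv_conj_z0 : ∀ σ : Perm (Fin 6), Perm.sign σ = 1 → σ * σ = 1 → σ ≠ 1 →
    ∃ w : Perm (Fin 6), Perm.sign w = 1 ∧ w * σ = z0 * w := by
  decide +kernel

/-- all involutions are conjugate to `Z0` -/
theorem exists_conj_Z0 {x : A6} (h2 : x * x = 1) (h1 : x ≠ 1) : ∃ w : A6, w * x * w⁻¹ = Z0 := by
  obtain ⟨w, hw, h⟩ := inv_conj_z0 x (sign_val x) (congrArg Subtype.val h2)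
    (fun h => h1 (Subtype.ext h))
  refine ⟨⟨w, Equiv.Perm.mem_alternatingGroup.2 hw⟩, Subtype.ext ?_⟩
  show w * x * w⁻¹ = z0
  rw [h, mul_inv_cancel_right]

/-- auxiliary elements for `gen_top` -/
def g1 : Perm (Fin 6) := swap 0 1 * swap 4 5
/-- auxiliary elements for `gen_top` -/
def g2 : Perm (Fin 6) := swap 0 4 * swap 4 2 * swap 2 5 * swap 1 3
/-- auxiliary elements for `gen_top` -/
def g3 : Perm (Fin 6) := swap 2 3 * swap 4 5
/-- auxiliary elements for `gen_top` -/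
def g4 : Perm (Fin 6) := swap 0 4 * swap 2 5
/-- auxiliary elements for `gen_top` -/
def g5 : Perm (Fin 6) := swap 0 5 * swap 2 4
/-- auxiliary elements for `gen_top` -/
def g6 : Perm (Fin 6) := swap 0 2 * swap 2 1 * swap 1 3 * swap 4 5

theorem gen_words : PermTypes.cyc 0 4 5 = g1 * g2 * g3 * g2 * g1 ∧
    PermTypes.cyc 1 4 5 = g4 * g1 * g5 ∧ PermTypes.cyc 2 4 5 = g3 * g4 * g3 * g2 * g6 ∧
    PermTypes.cyc 3 4 5 = g2 * g1 * g2 := by
  unfold PermTypes.cyc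
  decide +kernel

theorem gen_even : Perm.sign g1 = 1 ∧ Perm.sign g2 = 1 ∧ Perm.sign g3 = 1 ∧ Perm.sign g4 = 1 ∧
    Perm.sign g5 = 1 ∧ Perm.sign g6 = 1 := by decide +kernel

theorem gen_comm : g1 * a0 = a0 * g1 ∧ g2 * b0 = b0 * g2 ∧ g3 * a0 = a0 * g3 ∧ g4 * b0 = b0 * g4 ∧
    g5 * b0 = b0 * g5 ∧ g6 * a0 = a0 * g6 := by decide +kernel

theorem fin6_cases : ∀ i : Fin 6, i ≠ 4 → i ≠ 5 → i = 0 ∨ i = 1 ∨ i = 2 ∨ i = 3 := by decide

/-- the centralizers of `A0` and `B0` generate `A_6` -/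
theorem gen_top (H : Subgroup A6) (ha : ∀ x, x * A0 = A0 * x → x ∈ H)
    (hb : ∀ x, x * B0 = B0 * x → x ∈ H) : H = ⊤ := by
  have e := gen_even
  have c := gen_comm
  have m1 : (⟨g1, Equiv.Perm.mem_alternatingGroup.2 e.1⟩ : A6) ∈ H := ha _ (Subtype.ext c.1)
  have m2 : (⟨g2, Equiv.Perm.mem_alternatingGroup.2 e.2.1⟩ : A6) ∈ H := hb _ (Subtype.ext c.2.1)
  have m3 : (⟨g3, Equiv.Perm.mem_alternatingGroup.2 e.2.2.1⟩ : A6) ∈ H :=
    ha _ (Subtype.ext c.2.2.1)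
  have m4 : (⟨g4, Equiv.Perm.mem_alternatingGroup.2 e.2.2.2.1⟩ : A6) ∈ H :=
    hb _ (Subtype.ext c.2.2.2.1)
  have m5 : (⟨g5, Equiv.Perm.mem_alternatingGroup.2 e.2.2.2.2.1⟩ : A6) ∈ H :=
    hb _ (Subtype.ext c.2.2.2.2.1)
  have m6 : (⟨g6, Equiv.Perm.mem_alternatingGroup.2 e.2.2.2.2.2⟩ : A6) ∈ H :=
    ha _ (Subtype.ext c.2.2.2.2.2)
  have w := gen_words
  apply Carm.eq_top_of_cyc (c := (4 : Fin 6)) (d := 5) (by decide) (by simp)
  intro σ i h4 h5 hσ
  rcases fin6_cases i h4 h5 with rfl | rfl | rfl | rfl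
  · rw [w.1] at hσ
    have : σ = ⟨g1, Equiv.Perm.mem_alternatingGroup.2 e.1⟩ * ⟨g2, Equiv.Perm.mem_alternatingGroup.2 e.2.1⟩ *
      ⟨g3, Equiv.Perm.mem_alternatingGroup.2 e.2.2.1⟩ * ⟨g2, Equiv.Perm.mem_alternatingGroup.2 e.2.1⟩ *
      ⟨g1, Equiv.Perm.mem_alternatingGroup.2 e.1⟩ := Subtype.ext hσ
    rw [this]
    exact mul_mem (mul_mem (mul_mem (mul_mem m1 m2) m3) m2) m1
  · rw [w.2.1] at hσ
    have : σ = ⟨g4, Equiv.Perm.mem_alternatingGroup.2 e.2.2.2.1⟩ * ⟨g1, Equiv.Perm.mem_alternatingGroup.2 e.1⟩ *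
      ⟨g5, Equiv.Perm.mem_alternatingGroup.2 e.2.2.2.2.1⟩ := Subtype.ext hσ
    rw [this]
    exact mul_mem (mul_mem m4 m1) m5
  · rw [w.2.2.1] at hσ
    have : σ = ⟨g3, Equiv.Perm.mem_alternatingGroup.2 e.2.2.1⟩ * ⟨g4, Equiv.Perm.mem_alternatingGroup.2 e.2.2.2.1⟩ *
      ⟨g3, Equiv.Perm.mem_alternatingGroup.2 e.2.2.1⟩ * ⟨g2, Equiv.Perm.mem_alternatingGroup.2 e.2.1⟩ *
      ⟨g6, Equiv.Perm.mem_alternatingGroup.2 e.2.2.2.2.2⟩ := Subtype.ext hσ
    rw [this]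
    exact mul_mem (mul_mem (mul_mem (mul_mem m3 m4) m3) m2) m6
  · rw [w.2.2.2] at hσ
    have : σ = ⟨g2, Equiv.Perm.mem_alternatingGroup.2 e.2.1⟩ * ⟨g1, Equiv.Perm.mem_alternatingGroup.2 e.1⟩ *
      ⟨g2, Equiv.Perm.mem_alternatingGroup.2 e.2.1⟩ := Subtype.ext hσ
    rw [this]
    exact mul_mem (mul_mem m2 m1) m2

end Cfsg.Agent.StdAlt.Six
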