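import Mathlib
import Cfsg.Agent.StandardComponent.AltAut

/-!
# Automorphisms of `A_6`

`NS α`: the automorphism `α` of `A_6` is induced by a permutation. The product of two automorphisms that are not is
(`NS.mul_of_not`). Finite facts on `S_6` used for the case `n = 6` of the standard subgroup theorem.
-/

set_option autoImplicit false

namespace Cfsg.Agent.StdAlt.Six

open Equiv Equiv.Perm Subgroup
open Cfsg.Agent.StandardComponent.AltAut Cfsg.Agent.Lib.AltCarmichael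
open Cfsg.Agent.SporadicRecognition.AltCover

/-- the alternating group of degree six -/
abbrev A6 := alternatingGroup (Fin 6)

/-- the automorphism is induced by a permutation -/
def NS (α : MulAut A6) : Prop := ∃ σ : Perm (Fin 6), ∀ x : A6, (α x : Perm (Fin 6)) = σ * x * σ⁻¹

theorem NS.mul {α β : MulAut A6} (hα : NS α) (hβ : NS β) : NS (α * β) := by
  obtain ⟨σ, hσ⟩ := hα
  obtain ⟨τ, hτ⟩ := hβ
  refine ⟨σ * τ, fun x => ?_⟩
  rw [MulAut.mul_apply, hσ, hτ]; group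

theorem NS.inv {α : MulAut A6} (hα : NS α) : NS α⁻¹ := by
  obtain ⟨σ, hσ⟩ := hα
  refine ⟨σ⁻¹, fun x => ?_⟩
  have h := hσ (α⁻¹ x)
  rw [show α (α⁻¹ x) = x from α.apply_symm_apply x] at h
  rw [h]; group

theorem NS.conj (a : A6) : NS (MulAut.conj a) := ⟨a, fun _ => rfl⟩

theorem exists_conj_of {m : ℕ} (hm : 2 ≤ m) (e : MulAut (alternatingGroup (Fin (m + 2))))
    (hU : ∀ i (hi : i < m), (e (cy m i hi) : Perm (Fin (m + 2))).IsThreeCycle) :
    ∃ σ : Perm (Fin (m + 2)), ∀ x : alternatingGroup (Fin (m + 2)), (e x : Perm (Fin (m + 2))) = σ * x * σ⁻¹ := by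
  classical
  have hne : ∀ i (hi : i < m) j (hj : j < m), i ≠ j →
      (e (cy m i hi) : Perm (Fin (m + 2))) ≠ e (cy m j hj) := fun i hi j hj hij h =>
    cy_ne hi hj hij (e.injective (Subtype.ext h))
  have hni : ∀ i (hi : i < m) j (hj : j < m), i ≠ j →
      (e (cy m j hj) : Perm (Fin (m + 2))) ≠ (e (cy m i hi) : Perm (Fin (m + 2)))⁻¹ := fun i hi j hj hij h =>
    cy_ne_inv hi hj hij (e.injective (Subtype.ext (by rw [h, map_inv]; rfl)))
  have hsq : ∀ i (hi : i < m) j (hj : j < m), i ≠ j →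
      ((e (cy m i hi) : Perm (Fin (m + 2))) * e (cy m j hj)) ^ 2 = 1 := fun i hi j hj hij => by
    have h := congrArg (fun x => (e x : Perm (Fin (m + 2)))) (cy_sq hi hj hij)
    simpa using h
  have harc : ∀ i (hi : i < m) j (hj : j < m), i ≠ j →
      ∃ r, (e (cy m i hi) : Perm (Fin (m + 2))) r = (e (cy m j hj) : Perm (Fin (m + 2))) r ∧
        (e (cy m i hi) : Perm (Fin (m + 2))) r ≠ r := fun i hi j hj hij =>
    exists_arc (hU i hi) (hU j hj) (hne i hi j hj hij) (hni i hi j hj hij) (hsq i hi j hj hij)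
  have h0 : 0 < m := by omega
  have h1 : 1 < m := by omega
  obtain ⟨q, hq, hq'⟩ := harc 0 h0 1 h1 (by omega)
  obtain ⟨p, hp⟩ : ∃ p, p = (e (cy m 0 h0) : Perm (Fin (m + 2))) q := ⟨_, rfl⟩
  have hpq : p ≠ q := by rw [hp]; exact hq'
  have hall : ∀ i (hi : i < m), (e (cy m i hi) : Perm (Fin (m + 2))) q = p := by
    intro i hi
    by_cases hi0 : i = 0
    · subst hi0; exact hp.symm
    by_cases hi1 : i = 1
    · subst hi1; rw [hp, hq]
    rw [hp]
    exact arc_of_three (hU 0 h0) (hU 1 h1) (hU i hi) (hne 0 h0 1 h1 (by omega)) hq' hq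
      (harc 0 h0 i hi (Ne.symm hi0)) (harc 1 h1 i hi (Ne.symm hi1))
  have hqm : ∀ i (hi : i < m), (e (cy m i hi) : Perm (Fin (m + 2))) q ≠ q := fun i hi => by
    rw [hall i hi]; exact hpq
  -- the third point
  have hcq : ∀ i (hi : i < m), (e (cy m i hi) : Perm (Fin (m + 2))) p ≠ q := fun i hi => by
    rw [← hall i hi]; exact apply_two_ne (hU i hi) (hqm i hi)
  have hcp : ∀ i (hi : i < m), (e (cy m i hi) : Perm (Fin (m + 2))) p ≠ p := fun i hi h => by
    apply hqm i hi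
    rw [← hall i hi] at h
    exact (e (cy m i hi) : Perm (Fin (m + 2))).injective h
  have hcc : ∀ i (hi : i < m), (e (cy m i hi) : Perm (Fin (m + 2)))
      ((e (cy m i hi) : Perm (Fin (m + 2))) p) = q := fun i hi => by
    rw [← hall i hi]; exact apply_three (hU i hi) q
  have hinj : ∀ i (hi : i < m) j (hj : j < m), i ≠ j →
      (e (cy m i hi) : Perm (Fin (m + 2))) p ≠ (e (cy m j hj) : Perm (Fin (m + 2))) p := by
    intro i hi j hj hij h
    apply hne i hi j hj hij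
    apply eq_of_arc (hU i hi) (hU j hj) (hqm i hi)
    · rw [hall, hall]
    · rw [hall, hall]; exact h
  have hfix : ∀ i (hi : i < m) j (hj : j < m), i ≠ j →
      (e (cy m i hi) : Perm (Fin (m + 2))) ((e (cy m j hj) : Perm (Fin (m + 2))) p) =
        (e (cy m j hj) : Perm (Fin (m + 2))) p := by
    intro i hi j hj hij
    apply apply_of_not (hU i hi) (hqm i hi)
    · exact hcq j hj
    · rw [hall]; exact hcp j hj
    · rw [hall]; exact (hinj i hi j hj hij).symm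
  -- the permutation
  let f : Fin (m + 2) → Fin (m + 2) := fun x =>
    if h : x.val < m then (e (cy m x.val h) : Perm (Fin (m + 2))) p else if x.val = m then q else p
  have hf1 : ∀ i (hi : i < m), f (Fin.ofNat (m + 2) i) = (e (cy m i hi) : Perm (Fin (m + 2))) p := by
    intro i hi
    have hv : (Fin.ofNat (m + 2) i).val = i := ofNat_val (by omega)
    have hlt : (Fin.ofNat (m + 2) i).val < m := by rw [hv]; exact hi
    change (if h : (Fin.ofNat (m + 2) i).val < m then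
      (e (cy m (Fin.ofNat (m + 2) i).val h) : Perm (Fin (m + 2))) p else
        if (Fin.ofNat (m + 2) i).val = m then q else p) = _
    rw [dif_pos hlt]
    congr 3
    congr 1
  have hf2 : f (Fin.ofNat (m + 2) m) = q := by
    have hv : (Fin.ofNat (m + 2) m).val = m := ofNat_val (by omega)
    change (if h : (Fin.ofNat (m + 2) m).val < m then
      (e (cy m (Fin.ofNat (m + 2) m).val h) : Perm (Fin (m + 2))) p else
        if (Fin.ofNat (m + 2) m).val = m then q else p) = _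
    rw [dif_neg (by omega), if_pos hv]
  have hf3 : f (Fin.ofNat (m + 2) (m + 1)) = p := by
    have hv : (Fin.ofNat (m + 2) (m + 1)).val = m + 1 := ofNat_val (by omega)
    change (if h : (Fin.ofNat (m + 2) (m + 1)).val < m then
      (e (cy m (Fin.ofNat (m + 2) (m + 1)).val h) : Perm (Fin (m + 2))) p else
        if (Fin.ofNat (m + 2) (m + 1)).val = m then q else p) = _
    rw [dif_neg (by omega), if_neg (by omega)]
  have hcases : ∀ x : Fin (m + 2), (∃ i, i < m ∧ x = Fin.ofNat (m + 2) i) ∨ x = Fin.ofNat (m + 2) m ∨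
      x = Fin.ofNat (m + 2) (m + 1) := by
    intro x
    have hx := x.isLt
    rcases Nat.lt_or_ge x.val m with h | h
    · left; exact ⟨x.val, h, Fin.ext (ofNat_val hx).symm⟩
    rcases Nat.lt_or_ge x.val (m + 1) with h' | h'
    · right; left
      apply Fin.ext; rw [ofNat_val (by omega)]; omega
    · right; right
      apply Fin.ext; rw [ofNat_val (by omega)]; omega
  have hfi : Function.Injective f := by
    intro x y hxy
    rcases hcases x with ⟨i, hi, rfl⟩ | rfl | rfl <;> rcases hcases y with ⟨j, hj, rfl⟩ | rfl | rfl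
    · rw [hf1 i hi, hf1 j hj] at hxy
      by_contra hne'
      exact hinj i hi j hj (fun h => hne' (by rw [h])) hxy
    · rw [hf1 i hi, hf2] at hxy; exact absurd hxy (hcq i hi)
    · rw [hf1 i hi, hf3] at hxy; exact absurd hxy (hcp i hi)
    · rw [hf1 j hj, hf2] at hxy; exact absurd hxy.symm (hcq j hj)
    · rfl
    · rw [hf2, hf3] at hxy; exact absurd hxy.symm hpq
    · rw [hf1 j hj, hf3] at hxy; exact absurd hxy.symm (hcp j hj)
    · rw [hf2, hf3] at hxy; exact absurd hxy hpq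
    · rfl
  let σ : Perm (Fin (m + 2)) := Equiv.ofBijective f (Finite.injective_iff_bijective.1 hfi)
  have hσ : ∀ x, σ x = f x := fun x => rfl
  have hkey : ∀ i (hi : i < m), (e (cy m i hi) : Perm (Fin (m + 2))) = σ * cyc m i * σ⁻¹ := by
    intro i hi
    rw [eq_mul_inv_iff_mul_eq]
    ext1 x
    rw [Perm.mul_apply, Perm.mul_apply, hσ, hσ]
    rcases hcases x with ⟨j, hj, rfl⟩ | rfl | rfl
    · by_cases hij : i = j
      · subst hij
        rw [cyc_apply_self hi, hf1 i hi, hf2, hcc i hi]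
      · rw [cyc_apply_of_ne hi hj hij, hf1 j hj, hfix i hi j hj hij]
    · rw [cyc_apply_m hi, hf2, hf3, hall i hi]
    · rw [cyc_apply_m_succ, hf3, hf1 i hi]
  refine ⟨σ, fun x => ?_⟩
  have h := hom_ext (m := m) (by omega)
    (f := (alternatingGroup (Fin (m + 2))).subtype.comp e.toMonoidHom)
    (g := (MulAut.conj σ).toMonoidHom.comp (alternatingGroup (Fin (m + 2))).subtype)
    (fun i hi => hkey i hi)
  exact DFunLike.congr_fun h x

/-- an automorphism mapping a three-cycle to a three-cycle is induced by a permutation -/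
theorem ns_of_three {α : MulAut A6} {c : A6} (hc : (c : Perm (Fin 6)).IsThreeCycle)
    (h : (α c : Perm (Fin 6)).IsThreeCycle) : NS α := by
  apply exists_conj_of (m := 4) (by norm_num) α
  intro i hi
  have h1 : ((cy 4 i hi : A6) : Perm (Fin 6)).IsThreeCycle := isThreeCycle_cyc hi
  obtain ⟨g, hg⟩ := isConj_iff.1 (alternatingGroup.isThreeCycle_isConj (by simp) hc h1)
  have h2 : (α (cy 4 i hi) : Perm (Fin 6)) = α g * α c * (α g : Perm (Fin 6))⁻¹ := by
    rw [← hg, map_mul, map_mul, map_inv]; rfl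
  rw [h2]
  have h3 : (α g * α c * (α g : Perm (Fin 6))⁻¹).support.card = 3 := by
    rw [Equiv.Perm.card_support_conj]; exact h.card_support
  exact card_support_eq_three_iff.1 h3

/-! ### explicit elements -/

/-- `(0 2)(1 3)` -/
def z0 : Perm (Fin 6) := swap 0 2 * swap 1 3
/-- `(0 1)(2 3)` -/
def a0 : Perm (Fin 6) := swap 0 1 * swap 2 3
/-- `(0 2)(4 5)` -/
def b0 : Perm (Fin 6) := swap 0 2 * swap 4 5
/-- `(0 1 2)` -/
def c0 : Perm (Fin 6) := swap 0 1 * swap 1 2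
/-- `(0 1 4)(2 3 5)` -/
def d0 : Perm (Fin 6) := swap 0 1 * swap 1 4 * (swap 2 3 * swap 3 5)
/-- `(0 1 2 3)(4 5)` -/
def f0 : Perm (Fin 6) := swap 0 1 * swap 1 2 * swap 2 3 * swap 4 5
/-- `(0 1 2)(3 4 5)` -/
def t0 : Perm (Fin 6) := swap 0 1 * swap 1 2 * (swap 3 4 * swap 4 5)
/-- `(4 5)` -/
def s45 : Perm (Fin 6) := swap 4 5

theorem z0_mem : z0 ∈ alternatingGroup (Fin 6) := by rw [Equiv.Perm.mem_alternatingGroup]; decide +kernel
theorem a0_mem : a0 ∈ alternatingGroup (Fin 6) := by rw [Equiv.Perm.mem_alternatingGroup]; decide +kernel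
theorem b0_mem : b0 ∈ alternatingGroup (Fin 6) := by rw [Equiv.Perm.mem_alternatingGroup]; decide +kernel
theorem c0_mem : c0 ∈ alternatingGroup (Fin 6) := by rw [Equiv.Perm.mem_alternatingGroup]; decide +kernel
theorem d0_mem : d0 ∈ alternatingGroup (Fin 6) := by rw [Equiv.Perm.mem_alternatingGroup]; decide +kernel
theorem f0_mem : f0 ∈ alternatingGroup (Fin 6) := by rw [Equiv.Perm.mem_alternatingGroup]; decide +kernel
theorem t0_mem : t0 ∈ alternatingGroup (Fin 6) := by rw [Equiv.Perm.mem_alternatingGroup]; decide +kernel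

/-- number of moved points -/
def mv (σ : Perm (Fin 6)) : ℕ := σ.support.card

theorem mv_conj (σ τ : Perm (Fin 6)) : mv (σ * τ * σ⁻¹) = mv τ := Equiv.Perm.card_support_conj

theorem three_iff (σ : Perm (Fin 6)) : mv σ = 3 ↔ σ.IsThreeCycle := card_support_eq_three_iff

/-- elements of order three are three-cycles or conjugate to `t0` -/
theorem cube_cases : ∀ σ : Perm (Fin 6), σ * σ * σ = 1 → σ ≠ 1 → mv σ = 3 ∨
    (mv σ = 6 ∧ ∃ w : Perm (Fin 6), Perm.sign w = 1 ∧ w * t0 = σ * w) := by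
  decide +kernel

/-- the centralizer of `z0` in `A_6` -/
theorem cent_z0 : ∀ w : Perm (Fin 6), Perm.sign w = 1 → w * z0 = z0 * w →
    w = 1 ∨ w = z0 ∨ w = a0 ∨ w = a0 * z0 ∨ w = b0 ∨ w = b0 * z0 ∨ w = f0 ∨ w = f0 * z0 := by
  decide +kernel

theorem cent_P : ∀ σ : Perm (Fin 6), σ * f0 = f0 * σ → σ * a0 = a0 * σ →
    σ = 1 ∨ σ = z0 ∨ σ = s45 ∨ σ = s45 * z0 := by
  decide +kernel

theorem norm_V : ∀ c : Perm (Fin 6), c * c * c = 1 → c ≠ 1 →
    (c * z0 * c⁻¹ = z0 ∨ c * z0 * c⁻¹ = a0 ∨ c * z0 * c⁻¹ = a0 * z0) →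
    (c * a0 * c⁻¹ = z0 ∨ c * a0 * c⁻¹ = a0 ∨ c * a0 * c⁻¹ = a0 * z0) → mv c = 3 := by
  decide +kernel

theorem norm_V' : ∀ c : Perm (Fin 6), c * c * c = 1 → c ≠ 1 →
    (c * z0 * c⁻¹ = z0 ∨ c * z0 * c⁻¹ = b0 ∨ c * z0 * c⁻¹ = b0 * z0) →
    (c * b0 * c⁻¹ = z0 ∨ c * b0 * c⁻¹ = b0 ∨ c * b0 * c⁻¹ = b0 * z0) → mv c = 6 := by
  decide +kernel

theorem odd_inv : ∀ σ : Perm (Fin 6), Perm.sign σ = -1 → σ * σ = 1 →
    ∃ c : Perm (Fin 6), c * c * c = 1 ∧ c ≠ 1 ∧ c * σ = σ * c ∧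
      ∀ c' : Perm (Fin 6), c' * c' * c' = 1 → c' ≠ 1 → c' * σ = σ * c' → mv c' = mv c := by
  decide +kernel

theorem sq_eq_z0 : ∀ f : Perm (Fin 6), Perm.sign f = 1 → f * f = z0 → f = f0 ∨ f = f0 * z0 := by
  decide +kernel

theorem cent_f0 : ∀ w : Perm (Fin 6), Perm.sign w = 1 → w * f0 = f0 * w →
    w = 1 ∨ w = f0 ∨ w = z0 ∨ w = f0 * z0 := by
  decide +kernel

/-- the auxiliary elements -/
def WL : List (Perm (Fin 6)) := [swap 2 3 * swap 4 5, swap 1 2 * swap 4 5, swap 0 4 * swap 2 5, a0,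
  swap 1 4 * swap 3 5, swap 1 3 * swap 4 5, d0]

theorem WL_even : ∀ w ∈ WL, Perm.sign w = 1 := by decide +kernel

/-- commutator -/
def cm (w y : Perm (Fin 6)) : Perm (Fin 6) := w * y * w⁻¹ * y⁻¹

/-- `n` is a commutator `[w, y]` with `w` commuting with one of `z0, σ, σ z0` and `y ∈ {z0, σ}`, an involution -/
def comB (σ w y : Perm (Fin 6)) : Bool :=
  (decide (w * z0 = z0 * w) || decide (w * σ = σ * w) || decide (w * (σ * z0) = (σ * z0) * w)) &&
  decide (cm w y ≠ 1) && decide (cm w y * cm w y = 1)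

/-- the test -/
def twoB (σ : Perm (Fin 6)) : Bool :=
  WL.any fun w₁ => [z0, σ].any fun y₁ => comB σ w₁ y₁ && WL.any fun w₂ => [z0, σ].any fun y₂ =>
    comB σ w₂ y₂ && decide (cm w₁ y₁ ≠ cm w₂ y₂) && decide (cm w₁ y₁ * cm w₂ y₂ = cm w₂ y₂ * cm w₁ y₁)

theorem two_inv_aux : ∀ σ : Perm (Fin 6), σ * σ = 1 → σ ≠ 1 → σ ≠ z0 → σ * z0 = z0 * σ → twoB σ = true := by
  decide +kernel

theorem two_inv (σ : Perm (Fin 6)) (h1 : σ * σ = 1) (h2 : σ ≠ 1) (h3 : σ ≠ z0) (h4 : σ * z0 = z0 * σ) :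
    ∃ w₁ y₁ w₂ y₂ : Perm (Fin 6), Perm.sign w₁ = 1 ∧ Perm.sign w₂ = 1 ∧ (y₁ = z0 ∨ y₁ = σ) ∧
      (y₂ = z0 ∨ y₂ = σ) ∧ (w₁ * z0 = z0 * w₁ ∨ w₁ * σ = σ * w₁ ∨ w₁ * (σ * z0) = (σ * z0) * w₁) ∧
      (w₂ * z0 = z0 * w₂ ∨ w₂ * σ = σ * w₂ ∨ w₂ * (σ * z0) = (σ * z0) * w₂) ∧
      cm w₁ y₁ ≠ 1 ∧ cm w₂ y₂ ≠ 1 ∧ cm w₁ y₁ ≠ cm w₂ y₂ ∧ cm w₁ y₁ * cm w₁ y₁ = 1 ∧
      cm w₂ y₂ * cm w₂ y₂ = 1 ∧ cm w₁ y₁ * cm w₂ y₂ = cm w₂ y₂ * cm w₁ y₁ := by
  have h := two_inv_aux σ h1 h2 h3 h4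
  simp only [twoB, comB, List.any_eq_true, Bool.and_eq_true, decide_eq_true_eq, Bool.or_eq_true,
    List.mem_cons, List.not_mem_nil, or_false] at h
  obtain ⟨w₁, hw₁, y₁, hy₁, ⟨⟨k1, k2⟩, k3⟩, w₂, hw₂, y₂, hy₂, ⟨⟨⟨l1, l2⟩, l3⟩, m1⟩, m2⟩ := h
  exact ⟨w₁, y₁, w₂, y₂, WL_even w₁ hw₁, WL_even w₂ hw₂, hy₁, hy₂, or_assoc.1 k1, or_assoc.1 l1, k2, l2,
    m1, k3, l3, m2⟩

end Cfsg.Agent.StdAlt.Six
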