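import Cfsg.Agent.StdAlt.Six.Link

/-!
# The root element for `n = 6`
-/

set_option autoImplicit false
set_option linter.unusedSectionVars false

namespace Cfsg.Agent.StdAlt.Six

open Equiv Equiv.Perm Subgroup Cfsg.Agent.StdAlt.Conj

variable {G : Type*} [Group G] {A B : Subgroup G}

namespace SD

variable (D : SD A B)

include D

/-- conjugates under `A` of elements of `B` acting as `(4 5)` on `A` -/
theorem tt [Finite G] {g s : G} (hg : g ∈ A) (hs : s ∈ B) (hP : PP (D.L'.φ s))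
    (hQ : ¬ QQ (D.L'.φ s)) (hc : D.L.φ g * s45 * (D.L.φ g)⁻¹ * a0 =
      a0 * (D.L.φ g * s45 * (D.L.φ g)⁻¹))
    (h1 : ¬ QQ (D.L.φ g * s45 * (D.L.φ g)⁻¹)) (h2 : ¬ QQ (s45 * (D.L.φ g * s45 * (D.L.φ g)⁻¹))) :
    g * s * g⁻¹ ∈ N A ∧ g * s * g⁻¹ ∈ N B ∧
      D.L.φ (g * s * g⁻¹) = D.L.φ g * s45 * (D.L.φ g)⁻¹ ∧ D.L'.φ (g * s * g⁻¹) = D.L'.φ s * s45 ∧
      s ∈ N A ∧ ∀ k ∈ B, k ∈ C A → g * s * g⁻¹ * k * (g * s * g⁻¹)⁻¹ = s * k * s⁻¹ := by
  have hsA : s ∈ N A := D.symm.mem_N_of_PP hs hP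
  have hsφ : D.L.φ s = s45 := D.symm.act_s45 hs hP hQ
  have htA : g * s * g⁻¹ ∈ N A := mul_mem (mul_mem (le_N hg) hsA) (inv_mem (le_N hg))
  have htφ : D.L.φ (g * s * g⁻¹) = D.L.φ g * s45 * (D.L.φ g)⁻¹ := by
    rw [D.L.conj (le_N hg) hsA, hsφ]
  have htB : g * s * g⁻¹ ∈ N B := D.mem_N_of_a0' htA (by rw [htφ, hc])
  have hact : ∀ k ∈ B, k ∈ C A → g * s * g⁻¹ * k * (g * s * g⁻¹)⁻¹ = s * k * s⁻¹ := by
    intro k hk hkA
    have e1 : g⁻¹ * k * g = k := by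
      rw [mul_assoc, comm_of_C hkA hg, inv_mul_cancel_left]
    have e2 : g * (s * k * s⁻¹) * g⁻¹ = s * k * s⁻¹ := by
      rw [← comm_of_C (conj_mem_C hsA hkA) hg, mul_inv_cancel_right]
    calc g * s * g⁻¹ * k * (g * s * g⁻¹)⁻¹ = g * (s * (g⁻¹ * k * g) * s⁻¹) * g⁻¹ := by group
      _ = s * k * s⁻¹ := by rw [e1, e2]
  refine ⟨htA, htB, htφ, ?_, hsA, hact⟩
  rcases D.label_of_act htB hs hact with h3 | h3
  · exfalso
    have h4 := D.par htA htB (by rw [h3]; exact mem_alternatingGroup.1 (D.L'.even s hs))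
    rw [htφ] at h4
    rcases h4 with h4 | h4
    · exact h1 h4
    · exact h2 h4
  · exact h3

/-- the pair `A, g B g⁻¹` with `g` acting as `(0 4)(1 5)` -/
def shift {g : G} (hg : g ∈ A) (hφ : D.L.φ g = p0) : SD A (Conj.cj g B) where
  two := by
    have h := Two.cj D.two g
    rwa [cj_eq_iff.2 (le_N hg)] at h
  L := D.L.relabel p0
  L' := D.L'.cj g
  vl := by
    have hp : p0⁻¹ = p0 := inv_eq_of_mul_eq_one_left p0_facts.2.1
    have key : ∀ w, (∃ v ∈ A, v ∈ C B ∧ D.L.φ v = w) →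
        ∃ v ∈ A, v ∈ C (Conj.cj g B) ∧ (D.L.relabel p0).φ v = w := by
      rintro w ⟨v, hv, hvB, hvφ⟩
      refine ⟨g * v * g⁻¹, conj_mem (le_N hg) hv, ?_, ?_⟩
      · rw [mem_C_cj, show g⁻¹ * (g * v * g⁻¹) * g = v by group]; exact hvB
      · rw [Lab.relabel_φ, D.L.conj (le_N hg) (le_N hv), hvφ, hφ, hp,
          show p0 * (p0 * w * p0) * p0 = (p0 * p0) * w * (p0 * p0) by group, p0_facts.2.1, one_mul,
          mul_one]
    exact ⟨key _ D.vl.1, key _ D.vl.2⟩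
  vl' := by
    have h := D.vl'.cj g
    rwa [cj_eq_iff.2 (le_N hg)] at h

/-- the third subgroup -/
theorem exists_B3 [Finite G] (e : A6 ≃* A) {g s : G} (hg : g ∈ A) (hφ : D.L.φ g = p0)
    (hs : s ∈ B) (hsφ : D.L'.φ s = g1) :
    ∃ (B3 : Subgroup G) (E : SD B3 (Conj.cj g B)) (τ : Perm (Fin 6)), g * s * g⁻¹ ∈ C B3 ∧
      ∀ x, E.L'.φ x = τ * D.L'.φ (g⁻¹ * x * g) * τ⁻¹ := by
  obtain ⟨D1, hD1⟩ : ∃ D1 : SD A (Conj.cj g B), ∀ y, D1.L'.φ y = D.L'.φ (g⁻¹ * y * g) :=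
    ⟨D.shift hg hφ, fun y => rfl⟩
  set t := g * s * g⁻¹ with ht
  have hss : s * s = 1 := by
    apply D.L'.eq_one D.te' (mul_mem hs hs)
    rw [D.L'.mul _ _ (le_N hs) (le_N hs), hsφ]
    exact g1_facts.2.2.2.2.1
  have hs1 : s ≠ 1 := by
    rintro rfl
    rw [D.L'.one] at hsφ
    exact g1_facts.2.2.2.2.2 hsφ.symm
  have htt : t * t = 1 := by
    rw [ht, show g * s * g⁻¹ * (g * s * g⁻¹) = g * (s * s) * g⁻¹ by group, hss]; group
  have ht1 : t ≠ 1 := by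
    intro h
    apply hs1
    rw [show s = g⁻¹ * t * g by rw [ht]; group, h]; group
  have htB1 : t ∈ (Conj.cj g B) := conj_mem_cj.2 hs
  -- `s` lies in the centralizer of a conjugate of `A`
  obtain ⟨z, hz, hzA, hzφ⟩ := D.vl'.1
  obtain ⟨w, hw⟩ := exists_conj_Z0 (x := ⟨D.L'.φ s, D.L'.even s hs⟩)
    (Subtype.ext (by
      show D.L'.φ s * D.L'.φ s = 1
      rw [← D.L'.mul _ _ (le_N hs) (le_N hs), hss, D.L'.one]))
    (fun h1 => hs1 (D.L'.eq_one D.te' hs (congrArg Subtype.val h1)))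
  obtain ⟨b, hb, hbw⟩ := D.L'.lift (w : Perm (Fin 6)) w.2
  have hbs : b * s * b⁻¹ = z := by
    apply D.L'.inj D.te' (mul_mem (mul_mem hb hs) (inv_mem hb)) hz
    rw [D.L'.conj (le_N hb) (le_N hs), hbw, hzφ]
    exact congrArg Subtype.val hw
  set x := g * b⁻¹ with hx
  set B3 := Conj.cj x A with hB3
  have htB3 : t ∈ C B3 := by
    rw [hB3, mem_C_cj, hx, ht, show (g * b⁻¹)⁻¹ * (g * s * g⁻¹) * (g * b⁻¹) = b * s * b⁻¹ by group,
      hbs]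
    exact hzA
  have hte3 : TE B3 := D.te.cj x
  have hte1 : TE (Conj.cj g B) := D1.te'
  have hcj : Cj B3 (Conj.cj g B) := (Cj.cj A x).symm.trans D1.two.cj
  have hne : B3 ≠ (Conj.cj g B) := by
    intro h
    apply ht1
    apply hte1.disj t htB1
    rw [← h]; exact htB3
  have hle : C (Conj.cj g B) ≤ N B3 := fun k hk => hte3.nrm htB3 ht1 htt (comm_of_C hk htB1)
  -- an involution of `B3 ⊓ C (Conj.cj g B)`
  have h4 : 4 ∣ Nat.card (C A) := by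
    obtain ⟨v, hv, hvA, hvφ⟩ := D.vl'.1
    obtain ⟨v', hv', hvA', hvφ'⟩ := D.vl'.2
    have k1 : v ≠ 1 := by
      rintro rfl
      rw [D.L'.one] at hvφ
      exact Z0_ne (Subtype.ext hvφ.symm)
    have k2 : v' ≠ 1 := by
      rintro rfl
      rw [D.L'.one] at hvφ'
      exact A0_ne (Subtype.ext hvφ'.symm)
    have k3 : v ≠ v' := by
      rintro rfl
      exact A0_ne_Z0 (Subtype.ext (hvφ'.symm.trans hvφ))
    have k4 : v * v = 1 := by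
      apply D.L'.eq_one D.te' (mul_mem hv hv)
      rw [D.L'.mul _ _ (le_N hv) (le_N hv), hvφ]
      exact congrArg Subtype.val Z0_sq
    have k5 : v' * v' = 1 := by
      apply D.L'.eq_one D.te' (mul_mem hv' hv')
      rw [D.L'.mul _ _ (le_N hv') (le_N hv'), hvφ']
      exact congrArg Subtype.val A0_sq
    have k6 : v * v' = v' * v := by
      apply D.L'.inj D.te' (mul_mem hv hv') (mul_mem hv' hv)
      rw [D.L'.mul _ _ (le_N hv) (le_N hv'), D.L'.mul _ _ (le_N hv') (le_N hv), hvφ, hvφ']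
      exact (congrArg Subtype.val A0_Z0).symm
    rw [← Pairs.card_four (htt := k4) (hyy := k5) (hty := k6) k1 k2 k3]
    apply card_dvd_of_le
    rintro x (rfl | rfl | rfl | rfl)
    · exact one_mem _
    · exact hvA
    · exact hvA'
    · exact mul_mem hvA hvA'
  have h41 : 4 ∣ Nat.card ↥(C (Conj.cj g B) ⊓ N B3) := by
    rw [inf_eq_left.2 hle, ← D1.two.cj.card_C]; exact h4
  have e3 : A6 ≃* B3 := e.trans (A.equivMapOfInjective (MulAut.conj x).toMonoidHom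
    (MulAut.conj x).injective)
  obtain ⟨u, hu, huB1, hu1, huu⟩ := p6 hte3 hcj hne e3 h41
  have two31 : Two B3 (Conj.cj g B) :=
    ⟨hte3, hcj, hne, fun k hk => hte1.nrm huB1 hu1 huu (comm_of_C hk hu), hle⟩
  -- labellings
  obtain ⟨ρ, hρ⟩ := vg_of (Two.cj D.two x) (D.vl.cj x) two31 hu huB1 hu1 huu
  obtain ⟨τ, hτ⟩ := vg_of D1.two.symm D1.vl' two31.symm htB1 htB3 ht1 htt
  exact ⟨B3, ⟨two31, (D.L.cj x).relabel ρ, D1.L'.relabel τ, hρ, hτ⟩, τ, htB3, fun y => by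
    rw [← hD1]; rfl⟩

end SD

section two

variable {B1 B3 : Subgroup G} (D : SD A B1) (E : SD B3 B1)

include D E

/-- elements of `C B1 ⊓ C B3` centralize `A` -/
theorem delta_mem [Finite G] {δ : G} (h1 : δ ∈ C B1) (h3 : δ ∈ C B3) : δ ∈ C A := by
  have hodd : ∀ δ ∈ C B1, δ ∈ C B3 → Odd (orderOf δ) := fun δ h1 h3 =>
    odd_orderOf E.two.teA E.two.cj E.two.ne h3 h1
  have hδA : δ ∈ N A := D.two.leA h1
  rw [← D.L.ker _ hδA]
  have hQ := D.QQ_of_C h1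
  have hsq : D.L.φ δ * D.L.φ δ = 1 → D.L.φ δ = 1 := D.eq_one_of_odd h1 (hodd δ h1 h3)
  rcases QQ_cases _ hQ with h | h | h | h | h
  · exact h
  · exact hsq (by rw [h]; exact congrArg Subtype.val Z0_sq)
  · exact hsq (by rw [h]; exact congrArg Subtype.val A0_sq)
  · apply hsq
    rw [h]
    decide +kernel
  · obtain ⟨n, hn, hnB, hnφ⟩ := D.vl.1
    have hc1 : n * δ * n⁻¹ * δ⁻¹ ∈ C B1 :=
      mul_mem (mul_mem (mul_mem hnB h1) (inv_mem hnB)) (inv_mem h1)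
    have hc3 : n * δ * n⁻¹ * δ⁻¹ ∈ C B3 := mul_mem (conj_mem_C (E.two.leA hnB) h3) (inv_mem h3)
    have hcφ : D.L.φ (n * δ * n⁻¹ * δ⁻¹) = z0 * D.L.φ δ * z0⁻¹ * (D.L.φ δ)⁻¹ := by
      rw [D.L.mul _ _ (mul_mem (mul_mem (le_N hn) hδA) (inv_mem (le_N hn))) (inv_mem hδA),
        D.L.conj (le_N hn) hδA, D.L.inv hδA, hnφ]
    have hf := comm_facts _ hQ h
    have h5 := D.eq_one_of_odd hc1 (hodd _ hc1 hc3) (by rw [hcφ]; exact hf.1)
    rw [hcφ] at h5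
    exact hf.2 h5

/-- **relabelling `B3` such that the labels on `A ⊓ C B1` agree** -/
theorem exists_adj [Finite G] : ∃ E' : SD B3 B1, (∀ x, E'.L'.φ x = E.L'.φ x) ∧
    ∀ a ∈ A, a ∈ C B1 → E'.L.φ a = D.L.φ a := by
  have hcom : ∀ a ∈ A, a ∈ C B1 → a ≠ 1 → a * a = 1 → E.L.φ a ≠ 1 := by
    intro a _ haB h1 h2 h3
    exact E.two.ne (E.two.teA.eq_of_mem E.two.cj h1 h2
      ((E.L.ker _ (E.two.leA haB)).1 h3) haB)
  obtain ⟨p, hp, hpB, hpφ⟩ := D.vl.1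
  obtain ⟨q, hq, hqφ⟩ := D.exists_A QQ_c0.1
  have hqB : q ∈ C B1 := D.mem_C_of_QQ hq (by rw [hqφ]; exact QQ_c0)
  have hp3 : p ∈ N B3 := E.two.leA hpB
  have hq3 : q ∈ N B3 := E.two.leA hqB
  have hp1 : p ≠ 1 := by
    rintro rfl
    rw [D.L.one] at hpφ
    exact Z0_ne (Subtype.ext hpφ.symm)
  have hpp : p * p = 1 := by
    apply D.L.eq_one D.te (mul_mem hp hp)
    rw [D.L.mul _ _ (le_N hp) (le_N hp), hpφ]
    exact congrArg Subtype.val Z0_sq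
  have hqqq : q * q * q = 1 := by
    apply D.L.eq_one D.te (mul_mem (mul_mem hq hq) hq)
    rw [D.L.mul _ _ (le_N (mul_mem hq hq)) (le_N hq), D.L.mul _ _ (le_N hq) (le_N hq), hqφ]
    exact zc_facts.2.1
  -- the images
  have hP := E.QQ_of_C hpB
  have hQ := E.QQ_of_C hqB
  have hP1 : E.L.φ p ≠ 1 := hcom p hp hpB hp1 hpp
  have hPP : E.L.φ p * E.L.φ p = 1 := by rw [← E.L.mul _ _ hp3 hp3, hpp, E.L.one]
  have hQQQ : E.L.φ q * E.L.φ q * E.L.φ q = 1 := by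
    rw [← E.L.mul _ _ hq3 hq3, ← E.L.mul _ _ (mul_mem hq3 hq3) hq3, hqqq, E.L.one]
  have hQ1 : E.L.φ q ≠ 1 := by
    intro h
    have hc : p * q * p⁻¹ * q⁻¹ ∈ A :=
      mul_mem (mul_mem (mul_mem hp hq) (inv_mem hp)) (inv_mem hq)
    have hcB : p * q * p⁻¹ * q⁻¹ ∈ C B1 :=
      mul_mem (mul_mem (mul_mem hpB hqB) (inv_mem hpB)) (inv_mem hqB)
    have hcφ : D.L.φ (p * q * p⁻¹ * q⁻¹) = z0 * c0 * z0⁻¹ * c0⁻¹ := by
      rw [D.L.mul _ _ (mul_mem (mul_mem (le_N hp) (le_N hq)) (inv_mem (le_N hp)))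
        (inv_mem (le_N hq)), D.L.conj (le_N hp) (le_N hq), D.L.inv (le_N hq), hpφ, hqφ]
    refine hcom _ hc hcB ?_ ?_ ?_
    · intro h1
      rw [h1, D.L.one] at hcφ
      exact zc_facts.2.2.1 hcφ.symm
    · apply D.L.eq_one D.te (mul_mem hc hc)
      rw [D.L.mul _ _ (le_N hc) (le_N hc), hcφ]
      exact zc_facts.2.2.2
    · rw [E.L.mul _ _ (mul_mem (mul_mem hp3 hq3) (inv_mem hp3)) (inv_mem hq3),
        E.L.conj hp3 hq3, E.L.inv hq3, h]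
      group
  -- the permutation
  have hρ : ∃ ρ : Perm (Fin 6), (ρ * z0 = E.L.φ p * ρ ∧ ρ * c0 = E.L.φ q * ρ) ∧
      ρ 4 = 4 ∧ ρ 5 = 5 := by
    rcases QQ_cases _ hP with h | h | h | h | h
    · exact absurd h hP1
    · rw [h]; exact aut_z _ ⟨hQ, hQQQ, hQ1⟩
    · rw [h]; exact aut_a _ ⟨hQ, hQQQ, hQ1⟩
    · rw [h]; exact aut_az _ ⟨hQ, hQQQ, hQ1⟩
    · rw [hPP, one_mul] at h
      exact absurd h hP1
  obtain ⟨ρ, ⟨hρz, hρc⟩, hρ4, hρ5⟩ := hρ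
  have key : ∀ w, QQ w → ∃ v ∈ B3, v ∈ C B1 ∧ (E.L.relabel ρ⁻¹).φ v = w := by
    intro w hw
    have hw' := QQ_conj hρ4 hρ5 hw
    obtain ⟨v, hv, hvφ⟩ := E.exists_A hw'.1
    refine ⟨v, hv, E.mem_C_of_QQ hv (by rw [hvφ]; exact hw'), ?_⟩
    rw [Lab.relabel_φ, hvφ]; group
  refine ⟨⟨E.two, E.L.relabel ρ⁻¹, E.L', ⟨key z0 QQ_z0, key a0 QQ_a0⟩, E.vl'⟩, fun x => rfl, ?_⟩
  intro a ha haB
  show (E.L.relabel ρ⁻¹).φ a = D.L.φ a
  have hz : (E.L.relabel ρ⁻¹).φ p = z0 := by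
    rw [Lab.relabel_φ, inv_inv, mul_assoc, ← hρz]; group
  have hc : (E.L.relabel ρ⁻¹).φ q = c0 := by
    rw [Lab.relabel_φ, inv_inv, mul_assoc, ← hρc]; group
  obtain ⟨i, j, k, hw⟩ := gen_A4 _ (D.QQ_of_C haB)
  have haw : a = q ^ (i : ℕ) * p ^ (j : ℕ) * q ^ (k : ℕ) := by
    apply D.L.inj D.te ha (mul_mem (mul_mem (pow_mem hq _) (pow_mem hp _)) (pow_mem hq _))
    rw [D.L.mul _ _ (mul_mem (pow_mem (le_N hq) _) (pow_mem (le_N hp) _)) (pow_mem (le_N hq) _),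
      D.L.mul _ _ (pow_mem (le_N hq) _) (pow_mem (le_N hp) _), D.L.pow (le_N hq),
      D.L.pow (le_N hp), D.L.pow (le_N hq), hpφ, hqφ, hw]
  rw [hw, haw, (E.L.relabel ρ⁻¹).mul _ _ (mul_mem (pow_mem hq3 _) (pow_mem hp3 _)) (pow_mem hq3 _),
    (E.L.relabel ρ⁻¹).mul _ _ (pow_mem hq3 _) (pow_mem hp3 _), (E.L.relabel ρ⁻¹).pow hq3,
    (E.L.relabel ρ⁻¹).pow hp3, (E.L.relabel ρ⁻¹).pow hq3, hz, hc]

/-- labels on `B3` of elements normalizing `A`, `B1` and `B3`, when the labels agree -/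
theorem label3 [Finite G] (hE : ∀ a ∈ A, a ∈ C B1 → E.L.φ a = D.L.φ a) {m : G} (hmA : m ∈ N A)
    (hm1 : m ∈ N B1) (hm3 : m ∈ N B3) :
    E.L.φ m = D.L.φ m ∨ E.L.φ m = D.L.φ m * s45 := by
  have key : ∀ w, QQ w → E.L.φ m * w * (E.L.φ m)⁻¹ = D.L.φ m * w * (D.L.φ m)⁻¹ := by
    intro w hw
    obtain ⟨a, ha, rfl⟩ := D.exists_A hw.1
    have haB : a ∈ C B1 := D.mem_C_of_QQ ha hw
    rw [← D.L.conj hmA (le_N ha), ← hE _ (conj_mem hmA ha) (conj_mem_C hm1 haB),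
      E.L.conj hm3 (E.two.leA haB), hE a ha haB]
  have h2 : ∀ w, QQ w → (D.L.φ m)⁻¹ * E.L.φ m * w = w * ((D.L.φ m)⁻¹ * E.L.φ m) := by
    intro w hw
    have h3 := key w hw
    rw [mul_inv_eq_iff_eq_mul] at h3
    rw [mul_assoc, h3]; group
  rcases cent_Alt4 _ (h2 z0 QQ_z0) (h2 c0 QQ_c0) with h | h
  · left
    rw [inv_mul_eq_one] at h
    exact h.symm
  · right
    rw [← h]; group

end two

/-- **The root element.** -/
theorem SD.exists_root [Finite G] (D : SD A B) (e : A6 ≃* A) :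
    ∃ i₀ : Fin 6, ∃ v ∈ B, D.L'.φ v = v0 ∧ ∀ x ∈ A, D.L.φ x i₀ = i₀ → x * v = v * x := by
  obtain ⟨g, hg, hgφ⟩ := D.exists_A p0_facts.1
  obtain ⟨s, hs, hsφ⟩ := D.symm.exists_A g1_facts.1
  obtain ⟨g', hg', hgφ'⟩ := D.exists_A m4_facts.1
  obtain ⟨s', hs', hsφ'⟩ := D.symm.exists_A g3_facts.1
  change D.L'.φ s = g1 at hsφ
  change D.L'.φ s' = g3 at hsφ'
  -- the elements `t` and `y`
  obtain ⟨htA, htB, htφ, htφ', -, -⟩ := D.tt hg hs (by rw [hsφ]; exact g1_facts.2.1)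
    (by rw [hsφ]; exact g1_facts.2.2.1) (by rw [hgφ, p0_facts.2.2.1]; exact s_facts.1)
    (by rw [hgφ, p0_facts.2.2.1]; exact par_facts.1)
    (by rw [hgφ, p0_facts.2.2.1]; exact par_facts.2.1)
  obtain ⟨hyA, hyB, hyφ, hyφ', hs'A, hyact⟩ := D.tt hg' hs' (by rw [hsφ']; exact g3_facts.2.1)
    (by rw [hsφ']; exact g3_facts.2.2.1) (by rw [hgφ', m4_facts.2]; exact s_facts.2.1)
    (by rw [hgφ', m4_facts.2]; exact par_facts.2.2.1)
    (by rw [hgφ', m4_facts.2]; exact par_facts.2.2.2)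
  rw [hgφ, p0_facts.2.2.1] at htφ
  rw [hgφ', m4_facts.2] at hyφ
  rw [hsφ, g1_facts.2.2.2.1] at htφ'
  rw [hsφ', g3_facts.2.2.2] at hyφ'
  -- the other pairs
  obtain ⟨D1, hD1, hD1'⟩ : ∃ D1 : SD A (Conj.cj g B), (∀ x, D1.L.φ x = p0 * D.L.φ x * p0⁻¹) ∧
    ∀ x, D1.L'.φ x = D.L'.φ (g⁻¹ * x * g) := ⟨D.shift hg hgφ, fun x => rfl, fun x => rfl⟩
  obtain ⟨B3, E₀, τ, htB3, hE₀⟩ := D.exists_B3 e hg hgφ hs hsφ
  obtain ⟨E, hEL', hEL⟩ := exists_adj D1 E₀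
  have hEφ' : ∀ x, E.L'.φ x = τ * D1.L'.φ x * τ⁻¹ := fun x => by rw [hEL', hE₀, hD1']
  clear hEL' hE₀ E₀
  set t := g * s * g⁻¹ with ht
  set y := g' * s' * g'⁻¹ with hy
  have htB1 : t ∈ Conj.cj g B := conj_mem_cj.2 hs
  have hss : s * s = 1 := by
    apply D.L'.eq_one D.te' (mul_mem hs hs)
    rw [D.L'.mul _ _ (le_N hs) (le_N hs), hsφ]
    exact g1_facts.2.2.2.2.1
  have hs1 : s ≠ 1 := by
    rintro rfl
    rw [D.L'.one] at hsφ
    exact g1_facts.2.2.2.2.2 hsφ.symm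
  have htt : t * t = 1 := by
    rw [ht, show g * s * g⁻¹ * (g * s * g⁻¹) = g * (s * s) * g⁻¹ by group, hss]; group
  have ht1 : t ≠ 1 := by
    intro h
    apply hs1
    rw [show s = g⁻¹ * t * g by rw [ht]; group, h]; group
  have hnrm : ∀ {x : G}, x * t = t * x → x ∈ N B3 := fun h => E.te.nrm htB3 ht1 htt h
  -- `C A ⊓ C B = C A ⊓ C B1`
  have hCC : ∀ x, x ∈ C A → (x ∈ C B ↔ x ∈ C (Conj.cj g B)) := by
    intro x hx
    rw [mem_C_cj, mul_assoc, comm_of_C hx hg, inv_mul_cancel_left]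
  -- `y`
  have hyB1 : y ∈ N (Conj.cj g B) :=
    D1.mem_N_of_a0' hyA (by rw [hD1, hyφ, p0_facts.2.2.2.1]; exact s_facts.2.1)
  have hyt : y * t = t * y := by
    have h1 : y * t * y⁻¹ * t⁻¹ ∈ C A := by
      rw [← D.L.ker _ (mul_mem (mul_mem (mul_mem hyA htA) (inv_mem hyA)) (inv_mem htA)),
        D.L.mul _ _ (mul_mem (mul_mem hyA htA) (inv_mem hyA)) (inv_mem htA), D.L.conj hyA htA,
        D.L.inv htA, hyφ, htφ]
      exact s_facts.2.2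
    have h2 : y * t * y⁻¹ * t⁻¹ ∈ C B := by
      rw [← D.L'.ker _ (mul_mem (mul_mem (mul_mem hyB htB) (inv_mem hyB)) (inv_mem htB)),
        D.L'.mul _ _ (mul_mem (mul_mem hyB htB) (inv_mem hyB)) (inv_mem htB), D.L'.conj hyB htB,
        D.L'.inv htB, hyφ', htφ']
      exact s_facts.2.2
    have h3 := D1.te'.disj _ (mul_mem (conj_mem hyB1 htB1) (inv_mem htB1)) ((hCC _ h1).1 h2)
    rw [mul_inv_eq_one, mul_inv_eq_iff_eq_mul] at h3
    exact h3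
  have hyB3 : y ∈ N B3 := hnrm hyt
  have hD1y : D1.L.φ y = s23 := by rw [hD1, hyφ, p0_facts.2.2.2.1]
  have hD1y' : D1.L'.φ y = s23 := by
    have hs'1 : g * s' * g⁻¹ ∈ Conj.cj g B := conj_mem_cj.2 hs'
    have hφ1 : D1.L'.φ (g * s' * g⁻¹) = g3 := by
      rw [hD1', show g⁻¹ * (g * s' * g⁻¹) * g = s' by group, hsφ']
    have hact : ∀ k ∈ Conj.cj g B, k ∈ C A →
        y * k * y⁻¹ = g * s' * g⁻¹ * k * (g * s' * g⁻¹)⁻¹ := by
      intro k hk hkA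
      have e1 : g⁻¹ * k * g = k := by rw [mul_assoc, comm_of_C hkA hg, inv_mul_cancel_left]
      have hkB : k ∈ B := by rw [mem_cj, e1] at hk; exact hk
      have e2 : g * (s' * k * s'⁻¹) * g⁻¹ = s' * k * s'⁻¹ := by
        rw [← comm_of_C (conj_mem_C hs'A hkA) hg, mul_inv_cancel_right]
      rw [hyact k hkB hkA]
      symm
      calc g * s' * g⁻¹ * k * (g * s' * g⁻¹)⁻¹ = g * (s' * (g⁻¹ * k * g) * s'⁻¹) * g⁻¹ := by group
        _ = s' * k * s'⁻¹ := by rw [e1, e2]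
    rcases D1.label_of_act hyB1 hs'1 hact with h3 | h3
    · exfalso
      have h4 := D1.par hyA hyB1 (by rw [h3, hφ1]; exact g3_facts.1)
      rw [hD1y] at h4
      rcases h4 with h4 | h4
      · exact par_facts.2.2.1 h4
      · exact par_facts.2.2.2 h4
    · rw [h3, hφ1, g3_facts.2.2.2]
  -- the relabelling `τ`
  have hτ : QQ (τ * g1 * τ⁻¹) := by
    have h1 := E.symm.QQ_of_C htB3
    change QQ (E.L'.φ t) at h1
    rw [hEφ', hD1', ht, show g⁻¹ * (g * s * g⁻¹) * g = s by group, hsφ] at h1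
    exact h1
  obtain ⟨hτ1, hτ2, hτ3⟩ := tau_facts τ hτ
  have hEy : E.L.φ y = s23 * s45 := by
    have hsign : Perm.sign (E.L.φ y) ≠ -1 := by
      intro h
      have h1 := E.symm.par' hyB1 hyB3 h
      change ¬ QQ (E.L'.φ y) ∧ ¬ QQ (s45 * E.L'.φ y) at h1
      rw [hEφ', hD1y', hτ1] at h1
      exact h1.2 (by decide +kernel)
    rcases label3 D1 E hEL hyA hyB1 hyB3 with h | h
    · exfalso
      apply hsign
      rw [h, hD1y]
      exact sign_facts.2.1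
    · rw [h, hD1y]
  -- the element `h`
  obtain ⟨h, hh, hhC, hhφ⟩ := D.vl.2
  have hht : h * t = t * h := D.L.comm_of D.te hh htA (by rw [hhφ, htφ]; exact s_facts.1.symm)
  have hhB3 : h ∈ N B3 := hnrm hht
  have hD1h : D1.L.φ h = g3 := by rw [hD1, hhφ, p0_facts.2.2.2.2.1]
  have hhB1 : h ∈ N (Conj.cj g B) := D1.mem_N_of_PP hh (by rw [hD1h]; exact g3_facts.2.1)
  have hD1h' : D1.L'.φ h = s45 := D1.act_s45 hh (by rw [hD1h]; exact g3_facts.2.1)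
    (by rw [hD1h]; exact g3_facts.2.2.1)
  have hEh : E.L.φ h = s23 := by
    have hsign : Perm.sign (E.L.φ h) ≠ 1 := by
      intro h1
      have h2 := E.symm.par hhB1 hhB3 h1
      change QQ (E.L'.φ h) ∨ QQ (s45 * E.L'.φ h) at h2
      rw [hEφ', hD1h'] at h2
      rcases h2 with h2 | h2
      · exact hτ2 h2
      · exact hτ3 h2
    rcases label3 D1 E hEL (le_N hh) hhB1 hhB3 with h1 | h1
    · exfalso
      apply hsign
      rw [h1, hD1h]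
      exact g3_facts.1
    · rw [h1, hD1h, g3_facts.2.2.2]
  -- the root element
  obtain ⟨v, hv, hvφ⟩ := D.symm.exists_A v0_facts.1
  change D.L'.φ v = v0 at hvφ
  have hvt : v * t = t * v :=
    D.L'.comm_of D.te' hv htB (by rw [hvφ, htφ']; exact v0_facts.2.2.1.symm)
  have hvB3 : v ∈ N B3 := hnrm hvt
  have hvh : v * h = h * v := (comm_of_C hhC hv).symm
  have hyv : y * v * y⁻¹ = v⁻¹ := by
    apply D.L'.inj D.te' (conj_mem hyB hv) (inv_mem hv)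
    rw [D.L'.conj hyB (le_N hv), D.L'.inv (le_N hv), hvφ, hyφ']
    exact v0_facts.2.2.2
  have hvvv : v * v * v = 1 := by
    apply D.L'.eq_one D.te' (mul_mem (mul_mem hv hv) hv)
    rw [D.L'.mul _ _ (le_N (mul_mem hv hv)) (le_N hv), D.L'.mul _ _ (le_N hv) (le_N hv), hvφ]
    exact v0_facts.2.1
  have hν := nu_facts (E.L.φ v)
    (by rw [← E.L.mul _ _ hvB3 hvB3, ← E.L.mul _ _ (mul_mem hvB3 hvB3) hvB3, hvvv, E.L.one])
    (by rw [← hEh]; exact E.L.comm' hvB3 hhB3 hvh)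
    (by rw [← hEy, ← E.L.conj hyB3 hvB3, hyv, E.L.inv hvB3])
  -- `v` commutes with the elements of `A ⊓ C B1` whose labels commute
  have hcomm : ∀ κ, QQ κ → E.L.φ v * κ = κ * E.L.φ v → ∀ a ∈ A, D1.L.φ a = κ → v * a = a * v := by
    intro κ hκ hc a ha haφ
    have haB1 : a ∈ C (Conj.cj g B) := D1.mem_C_of_QQ ha (by rw [haφ]; exact hκ)
    obtain ⟨b, hb, hbφ⟩ := E.exists_A hκ.1
    have hbB1 : b ∈ C (Conj.cj g B) := E.mem_C_of_QQ hb (by rw [hbφ]; exact hκ)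
    have hvb : v * b = b * v := by
      have := E.L.comm_of E.te hb hvB3 (by rw [hbφ]; exact hc.symm)
      exact this.symm
    have hδ1 : b⁻¹ * a ∈ C (Conj.cj g B) := mul_mem (inv_mem hbB1) haB1
    have hδ3 : b⁻¹ * a ∈ C B3 := by
      rw [← E.L.ker _ (E.two.leA hδ1), E.L.mul _ _ (inv_mem (le_N hb)) (E.two.leA haB1),
        E.L.inv (le_N hb), hbφ, hEL a ha haB1, haφ, inv_mul_cancel]
    have hδA := delta_mem D1 E hδ1 hδ3
    have hδB := (hCC _ hδA).2 hδ1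
    have hvδ := comm_of_C hδB hv
    rw [show a = b * (b⁻¹ * a) by group, ← mul_assoc, hvb, mul_assoc, ← hvδ, ← mul_assoc]
  have hQv : ∀ x ∈ A, QQ (D.L.φ x) → x * v = v * x := fun x hx hQ =>
    comm_of_C (D.mem_C_of_QQ hx hQ) hv
  -- the stabilizer
  have hfin : ∀ (i₀ : Fin 6) (w : Perm (Fin 6)) (a : G), a ∈ A → D.L.φ a = w → v * a = a * v →
      (∀ σ : Perm (Fin 6), Perm.sign σ = 1 → σ i₀ = i₀ → QQ σ ∨
        ∃ (i : Fin 3) (j : Fin 2) (k : Fin 3),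
          QQ (w⁻¹ * (c0 ^ (i : ℕ) * z0 ^ (j : ℕ) * c0 ^ (k : ℕ)) * σ)) →
      ∀ x ∈ A, D.L.φ x i₀ = i₀ → x * v = v * x := by
    intro i₀ w a ha haφ hva hst x hx hxi
    rcases hst _ (mem_alternatingGroup.1 (D.L.even x hx)) hxi with hQ | ⟨i, j, k, hQ⟩
    · exact hQv x hx hQ
    · have hr := QQ_word i j k
      obtain ⟨r, hrA, hrφ⟩ := D.exists_A hr.1
      have h1 : D.L.φ (a⁻¹ * r * x) = w⁻¹ * (c0 ^ (i : ℕ) * z0 ^ (j : ℕ) * c0 ^ (k : ℕ)) *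
          D.L.φ x := by
        rw [D.L.mul _ _ (mul_mem (inv_mem (le_N ha)) (le_N hrA)) (le_N hx),
          D.L.mul _ _ (inv_mem (le_N ha)) (le_N hrA), D.L.inv (le_N ha), haφ, hrφ]
      have h2 := hQv _ (mul_mem (mul_mem (inv_mem ha) hrA) hx) (by rw [h1]; exact hQ)
      have h3 := hQv r hrA (by rw [hrφ]; exact hr)
      have h2' : a⁻¹ * r * x ∈ centralizer {v} := mem_centralizer_singleton_iff.2 h2
      have h3' : r ∈ centralizer {v} := mem_centralizer_singleton_iff.2 h3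
      have h4' : a ∈ centralizer {v} := mem_centralizer_singleton_iff.2 hva.symm
      have h5 := mul_mem (mul_mem (inv_mem h3') h4') h2'
      rw [show r⁻¹ * a * (a⁻¹ * r * x) = x by group] at h5
      exact mem_centralizer_singleton_iff.1 h5
  rcases hν with hν | hν
  · obtain ⟨a, ha, haφ⟩ := D.exists_A v0_facts.1
    have haφ1 : D1.L.φ a = k1 := by
      rw [hD1, haφ, ← p0_facts.2.2.2.2.2.1,
        show p0 * (p0 * k1 * p0⁻¹) * p0⁻¹ = (p0 * p0) * k1 * (p0 * p0)⁻¹ by group,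
        p0_facts.2.1]
      group
    exact ⟨5, v, hv, hvφ, hfin 5 v0 a ha haφ (hcomm k1 QQ_k1 hν a ha haφ1) stab5⟩
  · obtain ⟨a, ha, haφ⟩ := D.exists_A (w := v1) (by decide +kernel)
    have haφ1 : D1.L.φ a = c1 := by
      rw [hD1, haφ, ← p0_facts.2.2.2.2.2.2,
        show p0 * (p0 * c1 * p0⁻¹) * p0⁻¹ = (p0 * p0) * c1 * (p0 * p0)⁻¹ by group,
        p0_facts.2.1]
      group
    exact ⟨4, v, hv, hvφ, hfin 4 v1 a ha haφ (hcomm c1 QQ_c1 hν a ha haφ1) stab4⟩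

end Cfsg.Agent.StdAlt.Six
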