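import Cfsg.Agent.StdAlt.Six.PermSixB

/-!
# Linked pairs

Further properties of pairs in standard position, existence of standard positions for other pairs.
-/

set_option autoImplicit false
set_option linter.unusedSectionVars false

namespace Cfsg.Agent.StdAlt.Six

open Equiv Equiv.Perm Subgroup Cfsg.Agent.StdAlt.Conj

variable {G : Type*} [Group G] {A B : Subgroup G}

namespace SD

variable (D : SD A B)

include D

/-- elements of `N A` commuting with the involution `(0 1)(2 3)` -/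
theorem mem_N_of_a0' {m : G} (hm : m ∈ N A) (h : D.L.φ m * a0 = a0 * D.L.φ m) : m ∈ N B := by
  obtain ⟨v, hv, hvB, hvφ⟩ := D.vl.2
  refine D.te'.nrm hvB ?_ ?_ (D.L.comm_of D.te hv hm (by rw [hvφ, h])).symm
  · rintro rfl
    rw [D.L.one] at hvφ
    exact A0_ne (Subtype.ext hvφ.symm)
  · apply D.L.eq_one D.te (mul_mem hv hv)
    rw [D.L.mul _ _ (le_N hv) (le_N hv), hvφ]
    exact congrArg Subtype.val A0_sq

/-- lifts -/
theorem exists_A {w : Perm (Fin 6)} (hw : Perm.sign w = 1) : ∃ a ∈ A, D.L.φ a = w :=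
  D.L.lift w (mem_alternatingGroup.2 hw)

/-- the label of an element acting on `B ⊓ C A` as an element of `B` -/
theorem label_of_act [Finite G] {m s : G} (hm : m ∈ N B) (hs : s ∈ B)
    (h : ∀ k ∈ B, k ∈ C A → m * k * m⁻¹ = s * k * s⁻¹) :
    D.L'.φ m = D.L'.φ s ∨ D.L'.φ m = D.L'.φ s * s45 := by
  have h1 : s⁻¹ * m ∈ N B := mul_mem (inv_mem (le_N hs)) hm
  have h2 : D.L'.φ m = D.L'.φ s * D.L'.φ (s⁻¹ * m) := by
    rw [← D.L'.mul _ _ (le_N hs) h1]; congr 1; group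
  rcases D.cases_of_comm h1 (fun k hk hkA => by
    have h3 := h k hk hkA
    rw [mul_inv_eq_iff_eq_mul] at h3
    rw [mul_assoc, h3]; group) with h4 | h4
  · left; rw [h2, h4, mul_one]
  · right; rw [h2, h4]

/-- an element of odd order of `C B` -/
theorem eq_one_of_odd [Finite G] {δ : G} (hδ : δ ∈ C B) (hodd : Odd (orderOf δ))
    (h : D.L.φ δ * D.L.φ δ = 1) : D.L.φ δ = 1 := by
  have hN : δ ∈ N A := D.two.leA hδ
  have h1 : D.L.φ δ ^ orderOf δ = 1 := by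
    rw [← D.L.pow hN, pow_orderOf_eq_one, D.L.one]
  obtain ⟨m, hm⟩ := hodd
  rw [hm, pow_add, pow_mul, sq, h, one_pow, one_mul, pow_one] at h1
  exact h1

end SD

/-- conjugation of four-groups -/
theorem VL.cj {L : Lab A (Fin 6)} (h : VL L B) (x : G) : VL (L.cj x) (Conj.cj x B) := by
  have key : ∀ w, (∃ v ∈ A, v ∈ C B ∧ L.φ v = w) →
      ∃ v ∈ Conj.cj x A, v ∈ C (Conj.cj x B) ∧ (L.cj x).φ v = w := by
    rintro w ⟨v, hv, hvB, hvφ⟩
    refine ⟨x * v * x⁻¹, conj_mem_cj.2 hv, ?_, ?_⟩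
    · rw [mem_C_cj, show x⁻¹ * (x * v * x⁻¹) * x = v by group]; exact hvB
    · rw [Lab.cj_φ, show x⁻¹ * (x * v * x⁻¹) * x = v by group, hvφ]
  exact ⟨key _ h.1, key _ h.2⟩

theorem Two.cj (h : Two A B) (x : G) : Two (Conj.cj x A) (Conj.cj x B) := by
  refine ⟨h.teA.cj x, ((Cj.cj A x).symm.trans h.cj).trans (Cj.cj B x), ?_, ?_, ?_⟩
  · intro e
    apply h.ne
    ext y
    rw [← conj_mem_cj (g := x), e, conj_mem_cj]
  · intro y hy
    rw [mem_C_cj] at hy
    rw [mem_N_cj]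
    exact h.leB hy
  · intro y hy
    rw [mem_C_cj] at hy
    rw [mem_N_cj]
    exact h.leA hy

/-- **consistency**: the four-group in `A ⊓ C B'` is of the same type for all `B'` -/
theorem vg_of [Finite G] (h : Two A B) {L : Lab A (Fin 6)} (hV : VL L B) {B' : Subgroup G}
    (h' : Two A B') {u' : G} (hu' : u' ∈ A) (huB' : u' ∈ C B') (hu1 : u' ≠ 1)
    (huu : u' * u' = 1) : ∃ τ : Perm (Fin 6), VL (L.relabel τ) B' := by
  have hA := h.teA
  obtain ⟨u, hu, huB, huφ⟩ := hV.1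
  have hu1' : u ≠ 1 := by
    rintro rfl
    rw [L.one] at huφ
    exact Z0_ne (Subtype.ext huφ.symm)
  have huu' : u * u = 1 := by
    apply L.eq_one hA (mul_mem hu hu)
    rw [L.mul _ _ (le_N hu) (le_N hu), huφ]
    exact congrArg Subtype.val Z0_sq
  -- conjugate `u'` to `u`
  obtain ⟨w, hw⟩ := exists_conj_Z0 (x := ⟨L.φ u', L.even u' hu'⟩)
    (Subtype.ext (by
      show L.φ u' * L.φ u' = 1
      rw [← L.mul _ _ (le_N hu') (le_N hu'), huu, L.one]))
    (fun h1 => hu1 (L.eq_one hA hu' (congrArg Subtype.val h1)))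
  obtain ⟨c, hc, hcw⟩ := L.lift (w : Perm (Fin 6)) w.2
  have hcu : c * u' * c⁻¹ = u := by
    apply L.inj hA (mul_mem (mul_mem hc hu') (inv_mem hc)) hu
    rw [L.conj (le_N hc) (le_N hu'), hcw, huφ]
    exact congrArg Subtype.val hw
  have hBB : B = Conj.cj c B' := by
    refine h.teB.eq_of_mem ((h.cj.symm.trans h'.cj).trans (Cj.cj B' c)) hu1' huu' huB ?_
    rw [mem_C_cj, ← hcu, show c⁻¹ * (c * u' * c⁻¹) * c = u' by group]
    exact huB'
  refine ⟨L.φ c, ?_⟩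
  have key : ∀ w, (∃ v ∈ A, v ∈ C B ∧ L.φ v = w) →
      ∃ v ∈ A, v ∈ C B' ∧ (L.relabel (L.φ c)).φ v = w := by
    rintro w ⟨v, hv, hvB, hvφ⟩
    refine ⟨c⁻¹ * v * c, mul_mem (mul_mem (inv_mem hc) hv) hc, ?_, ?_⟩
    · rw [hBB, mem_C_cj] at hvB
      exact hvB
    · rw [Lab.relabel_φ, L.mul _ _ (mul_mem (inv_mem (le_N hc)) (le_N hv)) (le_N hc),
        L.mul _ _ (inv_mem (le_N hc)) (le_N hv), L.inv (le_N hc), hvφ]
      group
  exact ⟨key _ hV.1, key _ hV.2⟩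

end Cfsg.Agent.StdAlt.Six
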