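import Cfsg.Agent.StdAlt.Six.Act
import Cfsg.Agent.StdAlt.First

/-!
# Pairs of conjugates of a subgroup isomorphic to `A_6`

`p6`: if `4 ∣ |C B ⊓ N A|` then `C B ⊓ A` contains an involution.
`outer`: each involution inducing an outer automorphism on `A` is conjugate to its product with some involution of `A`.
-/

set_option autoImplicit false
set_option linter.unusedSectionVars false

namespace Cfsg.Agent.StdAlt.Six

open Equiv Equiv.Perm Subgroup Cfsg.Agent.StdAlt.Conj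

variable {G : Type*} [Group G] {A B : Subgroup G}

theorem four_of_cent {q : A6} (h : q * Z0 = Z0 * q) : q * q * (q * q) = 1 := by
  rcases cases_cent h with rfl | rfl | rfl | rfl | rfl | rfl | rfl | rfl
  · rfl
  · exact Subtype.ext (by decide +kernel : z0 * z0 * (z0 * z0) = 1)
  · exact Subtype.ext (by decide +kernel : a0 * a0 * (a0 * a0) = 1)
  · exact Subtype.ext (by decide +kernel : a0 * z0 * (a0 * z0) * (a0 * z0 * (a0 * z0)) = 1)
  · exact Subtype.ext (by decide +kernel : b0 * b0 * (b0 * b0) = 1)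
  · exact Subtype.ext (by decide +kernel : b0 * z0 * (b0 * z0) * (b0 * z0 * (b0 * z0)) = 1)
  · exact Subtype.ext (by decide +kernel : f0 * f0 * (f0 * f0) = 1)
  · exact Subtype.ext (by decide +kernel : f0 * z0 * (f0 * z0) * (f0 * z0 * (f0 * z0)) = 1)

theorem conj_Z0_sq : MulAut.conj Z0 * MulAut.conj Z0 = 1 := by
  rw [← map_mul, Z0_sq, map_one]

theorem comC_perm : c0 * (z0 * c0 * z0⁻¹)⁻¹ * (c0 * (z0 * c0 * z0⁻¹)⁻¹) = 1 ∧
    c0 * (z0 * c0 * z0⁻¹)⁻¹ ≠ 1 := by decide +kernel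

theorem comD_perm : d0 * (z0 * d0 * z0⁻¹)⁻¹ * (d0 * (z0 * d0 * z0⁻¹)⁻¹) = 1 ∧
    d0 * (z0 * d0 * z0⁻¹)⁻¹ ≠ 1 := by decide +kernel

theorem val_C0 : ((C0 : A6) : Perm (Fin 6)) = c0 := rfl
theorem val_D0 : ((D0 : A6) : Perm (Fin 6)) = d0 := rfl
theorem val_Z0 : ((Z0 : A6) : Perm (Fin 6)) = z0 := rfl

theorem comC : C0 * (Z0 * C0 * Z0⁻¹)⁻¹ * (C0 * (Z0 * C0 * Z0⁻¹)⁻¹) = 1 ∧
    C0 * (Z0 * C0 * Z0⁻¹)⁻¹ ≠ 1 := by
  refine ⟨Subtype.ext ?_, fun h => comC_perm.2 ?_⟩
  · rw [val_one, val_mul, val_mul, val_inv, val_mul, val_mul, val_inv, val_C0, val_Z0]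
    exact comC_perm.1
  · have := congrArg (fun x : A6 => (x : Perm (Fin 6))) h
    simp only [val_mul, val_inv, val_one, val_C0, val_Z0] at this
    exact this

theorem comD : D0 * (Z0 * D0 * Z0⁻¹)⁻¹ * (D0 * (Z0 * D0 * Z0⁻¹)⁻¹) = 1 ∧
    D0 * (Z0 * D0 * Z0⁻¹)⁻¹ ≠ 1 := by
  refine ⟨Subtype.ext ?_, fun h => comD_perm.2 ?_⟩
  · rw [val_one, val_mul, val_mul, val_inv, val_mul, val_mul, val_inv, val_D0, val_Z0]
    exact comD_perm.1
  · have := congrArg (fun x : A6 => (x : Perm (Fin 6))) h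
    simp only [val_mul, val_inv, val_one, val_D0, val_Z0] at this
    exact this

theorem s45_C0 : pc s45 C0 = C0 :=
  Subtype.ext ((pc_apply _ _).trans (by decide +kernel : s45 * c0 * s45⁻¹ = c0))

theorem s45_D0 : pc (s45 * z0) D0 = D0 :=
  Subtype.ext ((pc_apply _ _).trans (by decide +kernel : s45 * z0 * d0 * (s45 * z0)⁻¹ = d0))

theorem s45_sq : pc s45 * pc s45 = 1 := by
  rw [← map_mul, show s45 * s45 = 1 by decide +kernel, map_one]

theorem s45z_sq : pc (s45 * z0) * pc (s45 * z0) = 1 := by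
  rw [← map_mul, show s45 * z0 * (s45 * z0) = 1 by decide +kernel, map_one]

section noinv

variable [Finite G] (hA : TE A) (hB : Cj A B) (hne : A ≠ B) (e : A6 ≃* A)
  (hno : ∀ u ∈ A, u ∈ C B → u * u = 1 → u = 1)

include hA hB hne hno

theorem inner_aux {x z : G} (hx : x ∈ C B) (hx1 : x ≠ 1) (hxx : x * x = 1)
    (hxa : Act e x (MulAut.conj Z0)) (hz : z ∈ C B) (hzN : z ∈ N A) (hc : z * x = x * z)
    (hz1 : z ≠ 1) (hzx : z ≠ x) (hzz : z * z = 1 ∨ z * z = x) : False := by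
  obtain ⟨α, hα⟩ := exists_act e hzN
  have hxC : x ∉ C A := not_mem hA hB hne hx hx1 hxx
  have hcomm : MulAut.conj Z0 * α = α * MulAut.conj Z0 := hxa.comm hα hc.symm
  have hfZ : α Z0 = Z0 := fix_of_comm hcomm
  have hcj : ∀ p : A6, p * Z0 = Z0 * p → MulAut.conj Z0 p = p := by
    intro p hp
    rw [MulAut.conj_apply, ← hp, mul_inv_cancel_right]
  have hfix : ∀ p : A6, p * Z0 = Z0 * p → α p = p := by
    intro p hp
    have h1 := comm_emb_mem hA hB hne e hx hx1 hxx hxa (hcj p hp) hz hzN hα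
    have h2 : α p * Z0 = Z0 * α p := by
      have := congrArg α hp
      rwa [map_mul, map_mul, hfZ] at this
    have h3 : p * (α p)⁻¹ * Z0 = Z0 * (p * (α p)⁻¹) := by
      have h4 : (α p)⁻¹ * Z0 = Z0 * (α p)⁻¹ := by
        rw [inv_mul_eq_iff_eq_mul, ← mul_assoc, h2, mul_inv_cancel_right]
      rw [mul_assoc, h4, ← mul_assoc, hp, mul_assoc]
    set q := p * (α p)⁻¹ with hq
    have h4 := four_of_cent h3
    have h5 : emb e (q * q) = 1 := hno _ (emb_mem e _) (by rw [map_mul]; exact mul_mem h1 h1)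
      (by rw [← map_mul, h4, map_one])
    have h6 : q * q = 1 := emb_inj (e := e) (by rw [h5, map_one])
    have h7 : emb e q = 1 := hno _ (emb_mem e _) h1 (by rw [← map_mul, h6, map_one])
    have h8 : q = 1 := emb_inj (e := e) (by rw [h7, map_one])
    rw [hq, mul_inv_eq_one] at h8
    exact h8.symm
  obtain ⟨σ, hσ, hσα⟩ := act_of_fix hfix
  have hαpc : α = pc σ := by
    ext x : 1
    exact Subtype.ext (by rw [hσα, pc_apply])
  rcases hσ with rfl | rfl | rfl | rfl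
  · have hzC : z ∈ C A := hα.mem_C (by rw [hαpc, map_one])
    rcases hzz with hzz | hzz
    · exact not_mem hA hB hne hz hz1 hzz hzC
    · exact hxC (hzz ▸ mul_mem hzC hzC)
  · have hα' : α = MulAut.conj Z0 := by rw [hαpc, ← pc_val]; rfl
    have hzC : z * x ∈ C A := (hα.mul hxa).mem_C (by rw [hα', conj_Z0_sq])
    have h1 : z * x * (z * x) = z * z := by
      rw [mul_assoc, ← mul_assoc x, ← hc, mul_assoc z x, hxx, mul_one]
    rcases hzz with hzz | hzz
    · refine not_mem hA hB hne (mul_mem hz hx) ?_ (by rw [h1, hzz]) hzC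
      intro h
      exact hzx (by rw [mul_eq_one_iff_eq_inv] at h; rw [h]; exact inv_eq_of_mul_eq_one_left hxx)
    · apply hxC
      rw [← hzz, ← h1]
      exact mul_mem hzC hzC
  · have hzzC : z * z ∈ C A := (hα.mul hα).mem_C (by rw [hαpc, s45_sq])
    rcases hzz with hzz | hzz
    · have hαC : α C0 = C0 := by rw [hαpc]; exact s45_C0
      have h1 := comm_emb_mem hA hB hne e hz hz1 hzz hα hαC hx hxa.mem_N hxa
      rw [MulAut.conj_apply] at h1
      have h3 := hno _ (emb_mem e _) h1 (by rw [← map_mul, comC.1, map_one])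
      rw [← map_one (emb e)] at h3
      exact comC.2 (emb_inj h3)
    · exact hxC (hzz ▸ hzzC)
  · have hzzC : z * z ∈ C A := (hα.mul hα).mem_C (by rw [hαpc, s45z_sq])
    rcases hzz with hzz | hzz
    · have hαC : α D0 = D0 := by rw [hαpc]; exact s45_D0
      have h1 := comm_emb_mem hA hB hne e hz hz1 hzz hα hαC hx hxa.mem_N hxa
      rw [MulAut.conj_apply] at h1
      have h3 := hno _ (emb_mem e _) h1 (by rw [← map_mul, comD.1, map_one])
      rw [← map_one (emb e)] at h3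
      exact comD.2 (emb_inj h3)
    · exact hxC (hzz ▸ hzzC)

theorem inner {x z : G} (hx : x ∈ C B) (hx1 : x ≠ 1) (hxx : x * x = 1) {σ : Perm (Fin 6)}
    (hσ : Perm.sign σ = 1) (hxa : Act e x (pc σ)) (hz : z ∈ C B) (hzN : z ∈ N A)
    (hc : z * x = x * z) (hz1 : z ≠ 1) (hzx : z ≠ x) (hzz : z * z = 1 ∨ z * z = x) : False := by
  set v : A6 := ⟨σ, Equiv.Perm.mem_alternatingGroup.2 hσ⟩ with hv
  have hxa' : Act e x (MulAut.conj v) := by rw [← pc_val]; exact hxa
  have hv2 : v * v = 1 := by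
    apply conj_inj
    rw [map_mul, map_one]
    exact Act.unique (hxa'.mul hxa') (by rw [hxx]; exact act_one e)
  have hv1 : v ≠ 1 := by
    intro h
    exact not_mem hA hB hne hx hx1 hxx (hxa'.mem_C (by rw [h, map_one]))
  obtain ⟨w, hw⟩ := exists_conj_Z0 hv2 hv1
  refine inner_aux hA hB hne (tw (MulAut.conj w) e) hno hx hx1 hxx ?_ hz hzN hc hz1 hzx hzz
  have := hxa'.tw (MulAut.conj w)
  rwa [← map_mul, ← map_inv, ← map_mul, hw] at this

end noinv

/-- an element commuting with an odd involution -/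
theorem ns_of_comm {e : A6 ≃* A} {x z : G} {σ : Perm (Fin 6)} (hσ : Perm.sign σ = -1)
    (hxx : x * x = 1) (hx : Act e x (pc σ)) (hc : z * x = x * z) {α : MulAut A6}
    (hα : Act e z α) : NS α := by
  have hσσ : σ * σ = 1 := by
    apply pc_inj
    rw [map_mul, map_one]
    exact Act.unique (hx.mul hx) (by rw [hxx]; exact act_one e)
  apply ns_of_odd hσ hσσ
  intro y hy
  have h1 := hα.comm hx hc
  have h2 := congrArg (fun f : MulAut A6 => ((f y : A6) : Perm (Fin 6))) h1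
  simp only [MulAut.mul_apply, pc_apply] at h2
  have h3 : pc σ y = y := Subtype.ext (by rw [pc_apply, ← hy, mul_inv_cancel_right])
  rw [h3] at h2
  rw [eq_mul_inv_iff_mul_eq] at h2
  exact h2

/-- **P6** -/
theorem p6 [Finite G] (hA : TE A) (hB : Cj A B) (hne : A ≠ B) (e : A6 ≃* A)
    (h4 : 4 ∣ Nat.card ↥(C B ⊓ N A)) : ∃ u ∈ A, u ∈ C B ∧ u ≠ 1 ∧ u * u = 1 := by
  by_contra hcon
  have hno : ∀ u ∈ A, u ∈ C B → u * u = 1 → u = 1 := by
    intro u h1 h2 h3
    by_contra h5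
    exact hcon ⟨u, h1, h2, h5, h3⟩
  obtain ⟨x, hx, z, hz, hx1, hxx, hc, hz1, hzx, hzz⟩ :=
    PermTypes.exists_pair_of_four_dvd (C B ⊓ N A) h4
  rw [mem_inf] at hx hz
  obtain ⟨α, hα⟩ := exists_act e hx.2
  obtain ⟨β, hβ⟩ := exists_act e hz.2
  have hxi : ∀ σ, Perm.sign σ = 1 → α ≠ pc σ := by
    rintro σ hσ rfl
    exact inner hA hB hne e hno hx.1 hx1 hxx hσ hα hz.1 hz.2 hc hz1 hzx hzz
  have hsign : ∀ σ : Perm (Fin 6), Perm.sign σ ≠ 1 → Perm.sign σ = -1 := by
    intro σ h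
    rcases Int.units_eq_one_or (Perm.sign σ) with h1 | h1
    · exact absurd h1 h
    · exact h1
  have hzi : z * z = 1 → ∀ σ, Perm.sign σ = 1 → β ≠ pc σ := by
    rintro hzz' σ hσ rfl
    exact inner hA hB hne e hno hz.1 hz1 hzz' hσ hβ hx.1 hx.2 hc.symm hx1 (Ne.symm hzx)
      (Or.inl hxx)
  have hxzi : z * z = 1 → ∀ σ, Perm.sign σ = 1 → α * β ≠ pc σ := by
    rintro hzz' σ hσ h
    have h1 : x * z * (x * z) = 1 := by
      rw [mul_assoc, ← mul_assoc z, hc, mul_assoc x, hzz', mul_one, hxx]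
    refine inner hA hB hne e hno (x := x * z) (z := x) (mul_mem hx.1 hz.1) ?_ h1 hσ
      (h ▸ hα.mul hβ) hx.1 hx.2 ?_ hx1 ?_ (Or.inl hxx)
    · intro h2
      apply hzx
      rw [mul_eq_one_iff_inv_eq] at h2
      rw [← h2]
      exact inv_eq_of_mul_eq_one_left hxx
    · rw [mul_assoc, hc]
    · intro h2
      exact hz1 (mul_left_cancel (a := x) (by rw [← h2, mul_one]))
  by_cases hns : NS α
  · obtain ⟨σ, rfl⟩ := ns_iff.1 hns
    have hσ : Perm.sign σ = -1 := hsign σ (fun h => hxi σ h rfl)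
    obtain ⟨τ, rfl⟩ := ns_iff.1 (ns_of_comm hσ hxx hα hc hβ)
    rcases hzz with hzz | hzz
    · have hτ : Perm.sign τ = -1 := hsign τ (fun h => hzi hzz τ h rfl)
      refine hxzi hzz (σ * τ) ?_ (by rw [map_mul])
      rw [map_mul, hσ, hτ]; rfl
    · have h1 : pc (τ * τ) = pc σ := by
        rw [map_mul]
        exact Act.unique (hβ.mul hβ) (by rw [hzz]; exact hα)
      have h2 := pc_inj h1
      rw [← h2, map_mul] at hσ
      rcases Int.units_eq_one_or (Perm.sign τ) with h3 | h3 <;> rw [h3] at hσ <;>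
        exact absurd hσ (by decide)
  · rcases hzz with hzz | hzz
    · by_cases hns' : NS β
      · obtain ⟨τ, rfl⟩ := ns_iff.1 hns'
        have hτ : Perm.sign τ = -1 := hsign τ (fun h => hzi hzz τ h rfl)
        exact hns (ns_of_comm hτ hzz hβ hc.symm hα)
      · obtain ⟨ρ, hρ⟩ := ns_iff.1 (NS.mul_of_not hns hns')
        have hρs : Perm.sign ρ = -1 := hsign ρ (fun h => hxzi hzz ρ h hρ)
        have h1 : x * z * (x * z) = 1 := by
          rw [mul_assoc, ← mul_assoc z, hc, mul_assoc x, hzz, mul_one, hxx]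
        exact hns (ns_of_comm hρs h1 (hρ ▸ hα.mul hβ) (by rw [mul_assoc, hc]) hα)
    · apply hns
      have h1 : α = β * β := Act.unique hα (by rw [← hzz]; exact hβ.mul hβ)
      rw [h1]
      exact ns_sq β

theorem sign_neg_of {σ : Perm (Fin 6)} (h : Perm.sign σ ≠ 1) : Perm.sign σ = -1 := by
  rcases Int.units_eq_one_or (Perm.sign σ) with h1 | h1
  · exact absurd h1 h
  · exact h1

/-- involutions inducing outer automorphisms -/
theorem outer [Finite G] (hA : TE A) (e : A6 ≃* A) : Pairs.Outer A := by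
  intro y hy hy1 hyy hout
  obtain ⟨α, hα⟩ := exists_act e hy
  by_cases hns : NS α
  · obtain ⟨σ, rfl⟩ := ns_iff.1 hns
    have hσσ : σ * σ = 1 := by
      apply pc_inj
      rw [map_mul, map_one]
      exact Act.unique (hα.mul hα) (by rw [hyy]; exact act_one e)
    have hσ : Perm.sign σ ≠ 1 := by
      intro h
      have h1 : Act e ((emb e ⟨σ, Equiv.Perm.mem_alternatingGroup.2 h⟩)⁻¹) (pc σ)⁻¹ := by
        have := (act_emb e ⟨σ, Equiv.Perm.mem_alternatingGroup.2 h⟩).inv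
        rwa [← pc_val] at this
      exact hout _ (inv_mem (emb_mem e _)) ((h1.mul hα).mem_C (inv_mul_cancel _))
    have hσ1 : σ ≠ 1 := by
      rintro rfl
      exact hσ (map_one _)
    obtain ⟨τ, hτ, hτ1, hττ, hτσ, w, hw, hwσ⟩ := exists_sigma (by simp) hσ1 hσσ
      (fun h => hσ (Equiv.Perm.mem_alternatingGroup.1 h))
    have hpτ : pc τ = MulAut.conj (⟨τ, hτ⟩ : A6) := pc_val ⟨τ, hτ⟩
    have hpw : pc w = MulAut.conj (⟨w, hw⟩ : A6) := pc_val ⟨w, hw⟩
    refine ⟨emb e ⟨τ, hτ⟩, emb_mem e _, ?_, ?_, ?_, emb e ⟨w, hw⟩, emb_mem e _, ?_⟩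
    · intro h
      rw [← map_one (emb e)] at h
      exact hτ1 (congrArg Subtype.val (emb_inj h))
    · rw [← map_mul, ← map_one (emb e)]
      congr 1
      exact Subtype.ext hττ
    · symm
      apply hα.comm_emb
      exact Subtype.ext (by rw [pc_apply]; exact mul_inv_eq_iff_eq_mul.2 hτσ.symm)
    · have h1 : emb e ⟨w, hw⟩ * y * (emb e ⟨w, hw⟩)⁻¹ * (emb e ⟨τ, hτ⟩ * y)⁻¹ ∈ C A := by
        have h2 := ((act_emb e (⟨w, hw⟩ : A6)).mul hα).mul (act_emb e (⟨w, hw⟩ : A6)).inv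
        have h3 := ((act_emb e (⟨τ, hτ⟩ : A6)).mul hα).inv
        refine (h2.mul h3).mem_C ?_
        rw [← hpτ, ← hpw, ← map_inv, ← map_mul, ← map_mul, ← map_mul, ← map_inv, ← map_mul,
          hwσ, mul_inv_cancel, map_one]
      have h2 : emb e ⟨w, hw⟩ * y * (emb e ⟨w, hw⟩)⁻¹ * (emb e ⟨τ, hτ⟩ * y)⁻¹ ∈ A := by
        rw [show emb e ⟨w, hw⟩ * y * (emb e ⟨w, hw⟩)⁻¹ * (emb e ⟨τ, hτ⟩ * y)⁻¹ =
          emb e ⟨w, hw⟩ * (y * (emb e ⟨w, hw⟩)⁻¹ * y⁻¹) * (emb e ⟨τ, hτ⟩)⁻¹ by group]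
        exact mul_mem (mul_mem (emb_mem e _) (conj_mem hy (inv_mem (emb_mem e _))))
          (inv_mem (emb_mem e _))
      exact mul_inv_eq_one.1 (hA.disj _ h2 h1)
  · have heven : Even (Nat.card A) := by
      rw [even_iff_two_dvd, ← Nat.card_congr e.toEquiv]
      have h1 : orderOf Z0 = 2 := orderOf_eq_prime (by rw [sq]; exact Z0_sq) Z0_ne
      rw [← h1]
      exact orderOf_dvd_natCard _
    obtain ⟨s, hs, hs2, hys⟩ :=
      Cfsg.Agent.SignalizersComponents.StandardTools.exists_involution_commute heven hyy hy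
    have hs1 : s ≠ 1 := by
      rintro rfl
      rw [orderOf_one] at hs2
      exact absurd hs2 (by norm_num)
    have hss : s * s = 1 := by rw [← sq, ← hs2]; exact pow_orderOf_eq_one _
    obtain ⟨w, hw⟩ := exists_tw e hs hs1 hss
    have hα' := hα.tw (MulAut.conj w)
    set e' := tw (MulAut.conj w) e with he'
    set α' := MulAut.conj w * α * (MulAut.conj w)⁻¹ with hα'def
    have hns' : ¬ NS α' := fun h => hns (ns_conj_iff.1 h)
    have hfix : α' Z0 = Z0 := hα'.fix (by rw [hw]; exact hys)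
    have hinv : ∀ x, α' (α' x) = x := by
      have : α' * α' = 1 := Act.unique (hα'.mul hα') (by rw [hyy]; exact act_one e')
      intro x
      exact congrArg (fun f : MulAut A6 => f x) this
    obtain ⟨f, -, hf2, hf3, -⟩ := exists_f hfix hns' hinv
    refine ⟨s, hs, hs1, hss, hys.symm, emb e' f, emb_mem e' f, ?_⟩
    have h1 := hα'.commutator f
    rw [hf3, inv_inv, hf2, hw] at h1
    rw [mul_inv_eq_iff_eq_mul] at h1
    exact h1

end Cfsg.Agent.StdAlt.Six
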