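import Cfsg.Agent.StdAlt.Six.TypeV

/-!
# Permutations of six points
-/

set_option autoImplicit false
set_option linter.unusedSectionVars false

namespace Cfsg.Agent.StdAlt.Six

open Equiv Equiv.Perm Subgroup

/-- permutations preserving `{4, 5}` -/
def PP (τ : Perm (Fin 6)) : Prop := (τ 4 = 4 ∧ τ 5 = 5) ∨ (τ 4 = 5 ∧ τ 5 = 4)

instance (τ : Perm (Fin 6)) : Decidable (PP τ) := by unfold PP; infer_instance

/-- even permutations of `{0, 1, 2, 3}` -/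
def QQ (τ : Perm (Fin 6)) : Prop := Perm.sign τ = 1 ∧ τ 4 = 4 ∧ τ 5 = 5

instance (τ : Perm (Fin 6)) : Decidable (QQ τ) := by unfold QQ; infer_instance

/-- `(1 2 3)` -/
def c1 : Perm (Fin 6) := swap 1 2 * swap 2 3

theorem PP_mul {σ τ : Perm (Fin 6)} (hσ : PP σ) (hτ : PP τ) : PP (σ * τ) := by
  unfold PP at *
  simp only [Perm.mul_apply]
  rcases hσ with ⟨h1, h2⟩ | ⟨h1, h2⟩ <;> rcases hτ with ⟨h3, h4⟩ | ⟨h3, h4⟩ <;>
    rw [h3, h4, h1, h2] <;> simp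

theorem PP_inv {σ : Perm (Fin 6)} (hσ : PP σ) : PP σ⁻¹ := by
  unfold PP at *
  rcases hσ with ⟨h1, h2⟩ | ⟨h1, h2⟩
  · left
    exact ⟨by rw [Perm.inv_eq_iff_eq, h1], by rw [Perm.inv_eq_iff_eq, h2]⟩
  · right
    exact ⟨by rw [Perm.inv_eq_iff_eq, h2], by rw [Perm.inv_eq_iff_eq, h1]⟩

theorem QQ_PP {σ : Perm (Fin 6)} (hσ : QQ σ) : PP σ := Or.inl hσ.2

theorem QQ_mul {σ τ : Perm (Fin 6)} (hσ : QQ σ) (hτ : QQ τ) : QQ (σ * τ) := by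
  obtain ⟨h1, h2, h3⟩ := hσ
  obtain ⟨h4, h5, h6⟩ := hτ
  exact ⟨by rw [map_mul, h1, h4, mul_one], by rw [Perm.mul_apply, h5, h2],
    by rw [Perm.mul_apply, h6, h3]⟩

theorem QQ_inv {σ : Perm (Fin 6)} (hσ : QQ σ) : QQ σ⁻¹ := by
  obtain ⟨h1, h2, h3⟩ := hσ
  exact ⟨by rw [Perm.sign_inv, h1], by rw [Perm.inv_eq_iff_eq, h2], by rw [Perm.inv_eq_iff_eq, h3]⟩

theorem QQ_one : QQ 1 := ⟨map_one _, rfl, rfl⟩

theorem QQ_z0 : QQ z0 := by decide +kernel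

theorem QQ_a0 : QQ a0 := by decide +kernel

theorem QQ_c0 : QQ c0 := by decide +kernel

theorem QQ_c1 : QQ c1 := by decide +kernel

/-- even permutations preserving `{4, 5}` are products of elements commuting with `z0` or `a0` -/
theorem gen_S4 : ∀ w : Perm (Fin 6), Perm.sign w = 1 → PP w →
    ∃ i j k : Fin 4, w = f0 ^ (i : ℕ) * g6 ^ (j : ℕ) * f0 ^ (k : ℕ) := by
  decide +kernel

theorem f0_z0 : f0 * z0 = z0 * f0 := by decide +kernel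

/-- `(3 4 5)` -/
def m3 : Perm (Fin 6) := swap 3 4 * swap 4 5
/-- `(2 4)(3 5)` -/
def m4 : Perm (Fin 6) := swap 2 4 * swap 3 5

/-- double cosets of the stabilizer of `{4, 5}` -/
theorem double_coset : ∀ w : Perm (Fin 6), Perm.sign w = 1 → ¬ PP w →
    ∃ i j k : Fin 4, PP (m3⁻¹ * (f0 ^ (i : ℕ) * g6 ^ (j : ℕ) * f0 ^ (k : ℕ)) * w) ∨
      PP (m4⁻¹ * (f0 ^ (i : ℕ) * g6 ^ (j : ℕ) * f0 ^ (k : ℕ)) * w) := by
  decide +kernel

theorem m4_word : ∃ i j k : Fin 4, PP (m3⁻¹ * (f0 ^ (i : ℕ) * g6 ^ (j : ℕ) * f0 ^ (k : ℕ)) *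
    (m4 * c1 * m4)) := by
  decide +kernel

theorem m_even : Perm.sign m3 = 1 ∧ Perm.sign m4 = 1 := by decide +kernel

theorem sL_even : ∀ i j k : Fin 4, Perm.sign (f0 ^ (i : ℕ) * g6 ^ (j : ℕ) * f0 ^ (k : ℕ)) = 1 ∧
    PP (f0 ^ (i : ℕ) * g6 ^ (j : ℕ) * f0 ^ (k : ℕ)) := by
  decide +kernel

theorem cyc_words : ∀ i : Fin 6, i ≠ 4 → i ≠ 5 → ∃ a b c : Fin 4, PermTypes.cyc i 4 5 =
    (f0 ^ (a : ℕ) * g6 ^ (b : ℕ) * f0 ^ (c : ℕ)) * m3 *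
      (f0 ^ (a : ℕ) * g6 ^ (b : ℕ) * f0 ^ (c : ℕ))⁻¹ := by
  unfold PermTypes.cyc
  decide +kernel

/-- the stabilizer of `{4, 5}` is maximal -/
theorem S4_max (H : Subgroup (Perm (Fin 6))) (hS : ∀ w, Perm.sign w = 1 → PP w → w ∈ H)
    {w : Perm (Fin 6)} (hw : w ∈ H) (hws : Perm.sign w = 1) (hwP : ¬ PP w) :
    alternatingGroup (Fin 6) ≤ H := by
  have hm3' : ∀ w : Perm (Fin 6), w ∈ H → Perm.sign w = 1 →
      (∃ i j k : Fin 4, PP (m3⁻¹ * (f0 ^ (i : ℕ) * g6 ^ (j : ℕ) * f0 ^ (k : ℕ)) * w)) →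
      m3 ∈ H := by
    rintro w hw hws ⟨i, j, k, h⟩
    have hs := sL_even i j k
    have h1 := hS _ hs.1 hs.2
    have h2 := hS _ (by rw [map_mul, map_mul, Perm.sign_inv, m_even.1, hs.1, hws]; rfl) h
    have h3 := mul_mem (mul_mem h1 hw) (inv_mem h2)
    rwa [show f0 ^ (i : ℕ) * g6 ^ (j : ℕ) * f0 ^ (k : ℕ) * w * (m3⁻¹ * (f0 ^ (i : ℕ) *
      g6 ^ (j : ℕ) * f0 ^ (k : ℕ)) * w)⁻¹ = m3 by group] at h3
  have hm3 : m3 ∈ H := by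
    obtain ⟨i, j, k, h | h⟩ := double_coset w hws hwP
    · exact hm3' w hw hws ⟨i, j, k, h⟩
    · have hs := sL_even i j k
      have h1 := hS _ hs.1 hs.2
      have h2 := hS _ (by rw [map_mul, map_mul, Perm.sign_inv, m_even.2, hs.1, hws]; rfl) h
      have h3 := mul_mem (mul_mem h1 hw) (inv_mem h2)
      rw [show f0 ^ (i : ℕ) * g6 ^ (j : ℕ) * f0 ^ (k : ℕ) * w * (m4⁻¹ * (f0 ^ (i : ℕ) *
        g6 ^ (j : ℕ) * f0 ^ (k : ℕ)) * w)⁻¹ = m4 by group] at h3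
      refine hm3' (m4 * c1 * m4) (mul_mem (mul_mem h3 (hS _ QQ_c1.1 (QQ_PP QQ_c1))) h3) ?_ m4_word
      rw [map_mul, map_mul, m_even.2, QQ_c1.1]; rfl
  have htop : H.subgroupOf (alternatingGroup (Fin 6)) = ⊤ := by
    apply Carm.eq_top_of_cyc (c := (4 : Fin 6)) (d := 5) (by decide) (by simp)
    intro σ i h4 h5 hσ
    rw [mem_subgroupOf, hσ]
    obtain ⟨a, b, c, h⟩ := cyc_words i h4 h5
    have hs := sL_even a b c
    have h1 := hS _ hs.1 hs.2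
    rw [h]
    exact mul_mem (mul_mem h1 hm3) (inv_mem h1)
  intro x hx
  have h1 : (⟨x, hx⟩ : alternatingGroup (Fin 6)) ∈ H.subgroupOf (alternatingGroup (Fin 6)) := by
    rw [htop]; exact mem_top _
  exact mem_subgroupOf.1 h1

theorem norm_S4 : ∀ τ : Perm (Fin 6), PP (τ * c0 * τ⁻¹) → PP (τ * c1 * τ⁻¹) → PP τ := by
  decide +kernel

/-- the elements witnessing bad involutions -/
def BL : List (Perm (Fin 6)) :=
  [swap 0 4 * swap 4 5, swap 1 4 * swap 4 5, swap 2 4 * swap 4 5, swap 3 4 * swap 4 5,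
    swap 0 4 * swap 1 5, swap 0 4 * swap 2 5, swap 0 4 * swap 3 5, swap 1 4 * swap 2 5,
    swap 1 4 * swap 3 5, swap 2 4 * swap 3 5]

theorem BL_prop : ∀ w ∈ BL, Perm.sign w = 1 ∧ ¬ PP w := by decide +kernel

/-- products with the four-group -/
def VL4 : List (Perm (Fin 6)) := [1, z0, a0, a0 * z0]

theorem bad : ∀ τ : Perm (Fin 6), PP τ → ¬ QQ τ → ∃ i ∈ [1, 2, 3], ∃ v ∈ VL4, ∃ w ∈ BL,
    (τ ^ i * v ≠ 1 ∧ τ ^ i * v * (τ ^ i * v) = 1) ∧ w * (τ ^ i * v) = τ ^ i * v * w := by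
  decide +kernel

theorem QQ_cases : ∀ τ : Perm (Fin 6), QQ τ → τ = 1 ∨ τ = z0 ∨ τ = a0 ∨ τ = a0 * z0 ∨
    τ * τ * τ = 1 := by
  decide +kernel

theorem cent_V : ∀ τ : Perm (Fin 6), τ * z0 = z0 * τ → τ * a0 = a0 * τ → τ * τ = 1 := by
  decide +kernel

theorem cent_Alt4 : ∀ τ : Perm (Fin 6), τ * z0 = z0 * τ → τ * c0 = c0 * τ →
    τ = 1 ∨ τ = s45 := by
  decide +kernel

end Cfsg.Agent.StdAlt.Six
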