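import Cfsg.Agent.StdAlt.Six.Struct

/-!
# Permutations of six points, continued
-/

set_option autoImplicit false
set_option linter.unusedSectionVars false

namespace Cfsg.Agent.StdAlt.Six

open Equiv Equiv.Perm Subgroup

/-- `(0 1)` -/
def s01 : Perm (Fin 6) := swap 0 1
/-- `(2 3)` -/
def s23 : Perm (Fin 6) := swap 2 3
/-- `(0 4)(1 5)` -/
def p0 : Perm (Fin 6) := swap 0 4 * swap 1 5
/-- `(0 2 3)` -/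
def k1 : Perm (Fin 6) := swap 0 2 * swap 2 3
/-- `(4 2 3)` -/
def v0 : Perm (Fin 6) := swap 4 2 * swap 2 3
/-- `(5 2 3)` -/
def v1 : Perm (Fin 6) := swap 5 2 * swap 2 3

theorem p0_facts : Perm.sign p0 = 1 ∧ p0 * p0 = 1 ∧ p0 * s45 * p0⁻¹ = s01 ∧
    p0 * s23 * p0⁻¹ = s23 ∧ p0 * a0 * p0⁻¹ = g3 ∧ p0 * k1 * p0⁻¹ = v0 ∧ p0 * c1 * p0⁻¹ = v1 := by
  decide +kernel

theorem m4_facts : Perm.sign m4 = 1 ∧ m4 * s45 * m4⁻¹ = s23 := by decide +kernel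

theorem g1_facts : Perm.sign g1 = 1 ∧ PP g1 ∧ ¬ QQ g1 ∧ g1 * s45 = s01 ∧ g1 * g1 = 1 ∧ g1 ≠ 1 := by
  decide +kernel

theorem g3_facts : Perm.sign g3 = 1 ∧ PP g3 ∧ ¬ QQ g3 ∧ g3 * s45 = s23 := by decide +kernel

theorem s_facts : s01 * a0 = a0 * s01 ∧ s23 * a0 = a0 * s23 ∧ s23 * s01 * s23⁻¹ * s01⁻¹ = 1 := by
  decide +kernel

theorem par_facts : ¬ QQ s01 ∧ ¬ QQ (s45 * s01) ∧ ¬ QQ s23 ∧ ¬ QQ (s45 * s23) := by decide +kernel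

theorem tau_facts : ∀ τ : Perm (Fin 6), QQ (τ * g1 * τ⁻¹) → τ * s23 * τ⁻¹ = s45 ∧
    ¬ QQ (τ * s45 * τ⁻¹) ∧ ¬ QQ (s45 * (τ * s45 * τ⁻¹)) := by
  decide +kernel

theorem sign_facts : Perm.sign s45 = -1 ∧ Perm.sign s23 = -1 ∧ Perm.sign s01 = -1 := by
  decide +kernel

theorem v0_facts : Perm.sign v0 = 1 ∧ v0 * v0 * v0 = 1 ∧ s01 * v0 = v0 * s01 ∧
    s23 * v0 * s23⁻¹ = v0⁻¹ := by decide +kernel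

theorem nu_facts : ∀ ν : Perm (Fin 6), ν * ν * ν = 1 → ν * s23 = s23 * ν →
    (s23 * s45) * ν * (s23 * s45)⁻¹ = ν⁻¹ → ν * k1 = k1 * ν ∨ ν * c1 = c1 * ν := by
  decide +kernel

theorem QQ_k1 : QQ k1 := by decide +kernel

/-- generation of the alternating group of `{0, 1, 2, 3}` -/
theorem gen_A4 : ∀ w : Perm (Fin 6), QQ w →
    ∃ (i : Fin 3) (j : Fin 2) (k : Fin 3), w = c0 ^ (i : ℕ) * z0 ^ (j : ℕ) * c0 ^ (k : ℕ) := by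
  decide +kernel

theorem zc_facts : z0 * c0 * (z0 * c0) * (z0 * c0) = 1 ∧ c0 * c0 * c0 = 1 ∧
    z0 * c0 * z0⁻¹ * c0⁻¹ ≠ 1 ∧ z0 * c0 * z0⁻¹ * c0⁻¹ * (z0 * c0 * z0⁻¹ * c0⁻¹) = 1 := by
  decide +kernel

theorem aut_z : ∀ q : Perm (Fin 6), (QQ q ∧ q * q * q = 1 ∧ q ≠ 1) → ∃ ρ : Perm (Fin 6),
    (ρ * z0 = z0 * ρ ∧ ρ * c0 = q * ρ) ∧ ρ 4 = 4 ∧ ρ 5 = 5 := by
  decide +kernel

theorem aut_a : ∀ q : Perm (Fin 6), (QQ q ∧ q * q * q = 1 ∧ q ≠ 1) → ∃ ρ : Perm (Fin 6),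
    (ρ * z0 = a0 * ρ ∧ ρ * c0 = q * ρ) ∧ ρ 4 = 4 ∧ ρ 5 = 5 := by
  decide +kernel

theorem aut_az : ∀ q : Perm (Fin 6), (QQ q ∧ q * q * q = 1 ∧ q ≠ 1) → ∃ ρ : Perm (Fin 6),
    (ρ * z0 = a0 * z0 * ρ ∧ ρ * c0 = q * ρ) ∧ ρ 4 = 4 ∧ ρ 5 = 5 := by
  decide +kernel

theorem QQ_conj {ρ w : Perm (Fin 6)} (h4 : ρ 4 = 4) (h5 : ρ 5 = 5) (hw : QQ w) :
    QQ (ρ * w * ρ⁻¹) := by
  refine ⟨?_, ?_, ?_⟩
  · rw [map_mul, map_mul, Perm.sign_inv, hw.1, mul_one, Int.units_mul_self]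
  · have h : ρ⁻¹ 4 = 4 := by rw [Perm.inv_eq_iff_eq, h4]
    rw [Perm.mul_apply, Perm.mul_apply, h, hw.2.1, h4]
  · have h : ρ⁻¹ 5 = 5 := by rw [Perm.inv_eq_iff_eq, h5]
    rw [Perm.mul_apply, Perm.mul_apply, h, hw.2.2, h5]

theorem comm_facts : ∀ τ : Perm (Fin 6), QQ τ → τ * τ * τ = 1 →
    z0 * τ * z0⁻¹ * τ⁻¹ * (z0 * τ * z0⁻¹ * τ⁻¹) = 1 ∧ (z0 * τ * z0⁻¹ * τ⁻¹ = 1 → τ = 1) := by
  decide +kernel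

/-- the stabilizer of a point -/
theorem stab5 : ∀ σ : Perm (Fin 6), Perm.sign σ = 1 → σ 5 = 5 → QQ σ ∨
    ∃ (i : Fin 3) (j : Fin 2) (k : Fin 3),
      QQ (v0⁻¹ * (c0 ^ (i : ℕ) * z0 ^ (j : ℕ) * c0 ^ (k : ℕ)) * σ) := by
  decide +kernel

theorem stab4 : ∀ σ : Perm (Fin 6), Perm.sign σ = 1 → σ 4 = 4 → QQ σ ∨
    ∃ (i : Fin 3) (j : Fin 2) (k : Fin 3),
      QQ (v1⁻¹ * (c0 ^ (i : ℕ) * z0 ^ (j : ℕ) * c0 ^ (k : ℕ)) * σ) := by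
  decide +kernel

theorem QQ_word : ∀ (i : Fin 3) (j : Fin 2) (k : Fin 3),
    QQ (c0 ^ (i : ℕ) * z0 ^ (j : ℕ) * c0 ^ (k : ℕ)) := by
  decide +kernel

theorem root_of_inv : ∀ σ : Perm (Fin 6), Perm.sign σ = 1 → σ * σ = 1 → σ ≠ 1 →
    σ.support.card = 4 := by
  decide +kernel

end Cfsg.Agent.StdAlt.Six
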