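import Cfsg.Agent.StdAlt.Six.PermSix

/-!
# Structure of a labelled pair of conjugates isomorphic to `A_6`

`SD A B`: a pair of type two with labellings such that the four-group on the points `0, 1, 2, 3` of `A` centralizes
`B` and conversely.
-/

set_option autoImplicit false
set_option linter.unusedSectionVars false

namespace Cfsg.Agent.StdAlt.Six

open Equiv Equiv.Perm Subgroup Cfsg.Agent.StdAlt.Conj

variable {G : Type*} [Group G] {A B : Subgroup G}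

/-- a pair in standard position -/
structure SD (A B : Subgroup G) where
  two : Two A B
  /-- labelling of `A` -/
  L : Lab A (Fin 6)
  /-- labelling of `B` -/
  L' : Lab B (Fin 6)
  vl : VL L B
  vl' : VL L' A

namespace SD

/-- the symmetric pair -/
def symm (D : SD A B) : SD B A := ⟨D.two.symm, D.L', D.L, D.vl', D.vl⟩

variable (D : SD A B)

include D

theorem te : TE A := D.two.teA

theorem te' : TE B := D.two.teB

theorem mem_N_of_z0 {x : G} (hx : x ∈ A) (h : D.L.φ x * z0 = z0 * D.L.φ x) : x ∈ N B := by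
  obtain ⟨v, hv, hvB, hvφ⟩ := D.vl.1
  refine D.te'.nrm hvB ?_ ?_ (D.L.comm_of D.te hx (le_N hv) (by rw [hvφ, h]))
  · rintro rfl
    rw [D.L.one] at hvφ
    exact Z0_ne (Subtype.ext hvφ.symm)
  · apply D.L.eq_one D.te (mul_mem hv hv)
    rw [D.L.mul _ _ (le_N hv) (le_N hv), hvφ]
    exact congrArg Subtype.val Z0_sq

theorem mem_N_of_a0 {x : G} (hx : x ∈ A) (h : D.L.φ x * a0 = a0 * D.L.φ x) : x ∈ N B := by
  obtain ⟨v, hv, hvB, hvφ⟩ := D.vl.2
  refine D.te'.nrm hvB ?_ ?_ (D.L.comm_of D.te hx (le_N hv) (by rw [hvφ, h]))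
  · rintro rfl
    rw [D.L.one] at hvφ
    exact A0_ne (Subtype.ext hvφ.symm)
  · apply D.L.eq_one D.te (mul_mem hv hv)
    rw [D.L.mul _ _ (le_N hv) (le_N hv), hvφ]
    exact congrArg Subtype.val A0_sq

theorem mem_N_of_PP {x : G} (hx : x ∈ A) (h : PP (D.L.φ x)) : x ∈ N B := by
  obtain ⟨i, j, k, hw⟩ := gen_S4 _ (mem_alternatingGroup.1 (D.L.even x hx)) h
  obtain ⟨f, hf, hfφ⟩ := D.L.lift f0 f0_mem
  obtain ⟨g, hg, hgφ⟩ := D.L.lift g6 (mem_alternatingGroup.2 gen_even.2.2.2.2.2)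
  have hfN : f ∈ N B := D.mem_N_of_z0 hf (by rw [hfφ, f0_z0])
  have hgN : g ∈ N B := D.mem_N_of_a0 hg (by rw [hgφ, gen_comm.2.2.2.2.2])
  have hmem : f ^ (i : ℕ) * g ^ (j : ℕ) * f ^ (k : ℕ) ∈ A :=
    mul_mem (mul_mem (pow_mem hf _) (pow_mem hg _)) (pow_mem hf _)
  have : x = f ^ (i : ℕ) * g ^ (j : ℕ) * f ^ (k : ℕ) := by
    apply D.L.inj D.te hx hmem
    rw [D.L.mul _ _ (mul_mem (pow_mem (le_N hf) _) (pow_mem (le_N hg) _)) (pow_mem (le_N hf) _),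
      D.L.mul _ _ (pow_mem (le_N hf) _) (pow_mem (le_N hg) _), D.L.pow (le_N hf),
      D.L.pow (le_N hg), D.L.pow (le_N hf), hfφ, hgφ, hw]
  rw [this]
  exact mul_mem (mul_mem (pow_mem hfN _) (pow_mem hgN _)) (pow_mem hfN _)

/-- the set of even permutations whose lifts normalize `B` -/
theorem PP_of_mem_N {x : G} (hx : x ∈ A) (hxB : x ∈ N B) : PP (D.L.φ x) := by
  by_contra hP
  -- then `A ≤ N B`
  have hle : alternatingGroup (Fin 6) ≤ D.L.img (A ⊓ N B) := by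
    refine S4_max _ ?_ (D.L.φ_mem_img (mem_inf.2 ⟨hx, hxB⟩) (le_N hx))
      (mem_alternatingGroup.1 (D.L.even x hx)) hP
    intro w hw hwP
    obtain ⟨a, ha, rfl⟩ := D.L.lift w (mem_alternatingGroup.2 hw)
    exact D.L.φ_mem_img (mem_inf.2 ⟨ha, D.mem_N_of_PP ha hwP⟩) (le_N ha)
  have hAB : A ≤ N B := by
    intro a ha
    obtain ⟨b, hb, -, hbφ⟩ := D.L.mem_img.1 (hle (D.L.even a ha))
    rw [← D.L.inj D.te (mem_inf.1 hb).1 ha hbφ]
    exact (mem_inf.1 hb).2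
  -- the subgroup `A ⊓ C B` is normal in `A`
  have hn : ((D.L.img (A ⊓ C B)).subgroupOf (alternatingGroup (Fin 6))).Normal := by
    constructor
    intro k hk y
    rw [mem_subgroupOf] at hk ⊢
    obtain ⟨a, ha, hak⟩ := D.L.lift (y : Perm (Fin 6)) y.2
    obtain ⟨b, hb, hbN, hbk⟩ := D.L.mem_img.1 hk
    have h1 := D.L.φ_mem_img (mem_inf.2 ⟨conj_mem (le_N ha) (mem_inf.1 hb).1,
      conj_mem_C (hAB ha) (mem_inf.1 hb).2⟩) (conj_mem (le_N (le_N ha)) hbN)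
    rw [D.L.conj (le_N ha) hbN, hak, hbk] at h1
    exact h1
  have hsimple : IsSimpleGroup (alternatingGroup (Fin 6)) :=
    alternatingGroup.isSimpleGroup (by rw [Nat.card_eq_fintype_card, Fintype.card_fin]; omega)
  rcases hn.eq_bot_or_eq_top with h | h
  · obtain ⟨v, hv, hvB, hvφ⟩ := D.vl.1
    have h1 : Z0 ∈ (D.L.img (A ⊓ C B)).subgroupOf (alternatingGroup (Fin 6)) := by
      rw [mem_subgroupOf]
      show z0 ∈ _
      rw [← hvφ]
      exact D.L.φ_mem_img (mem_inf.2 ⟨hv, hvB⟩) (le_N hv)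
    rw [h, mem_bot] at h1
    exact Z0_ne h1
  · apply D.te.ncomm B D.two.cj
    intro a ha
    have h1 : (⟨D.L.φ a, D.L.even a ha⟩ : A6) ∈
        (D.L.img (A ⊓ C B)).subgroupOf (alternatingGroup (Fin 6)) := by rw [h]; exact mem_top _
    obtain ⟨b, hb, -, hbφ⟩ := D.L.mem_img.1 (mem_subgroupOf.1 h1)
    rw [← D.L.inj D.te (mem_inf.1 hb).1 ha hbφ]
    exact (mem_inf.1 hb).2

/-- elements of `C B` preserve `{4, 5}` -/
theorem PP_of_C {j : G} (hj : j ∈ C B) : PP (D.L.φ j) := by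
  have hjA : j ∈ N A := D.two.leA hj
  have key : ∀ w, QQ w → PP (D.L.φ j * w * (D.L.φ j)⁻¹) := by
    intro w hw
    obtain ⟨a, ha, rfl⟩ := D.L.lift w (mem_alternatingGroup.2 hw.1)
    have h1 : a ∈ N B := D.mem_N_of_PP ha (QQ_PP hw)
    rw [← D.L.conj hjA (le_N ha)]
    exact D.PP_of_mem_N (conj_mem hjA ha)
      (mul_mem (mul_mem (C_le_N hj) h1) (inv_mem (C_le_N hj)))
  exact norm_S4 _ (key _ QQ_c0) (key _ QQ_c1)

theorem vl_img {v : Perm (Fin 6)} (hv : v ∈ VL4) : v ∈ D.L.img (C B) := by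
  obtain ⟨x, hx, hxB, hxφ⟩ := D.vl.1
  obtain ⟨y, hy, hyB, hyφ⟩ := D.vl.2
  have h1 : z0 ∈ D.L.img (C B) := by rw [← hxφ]; exact D.L.φ_mem_img hxB (le_N hx)
  have h2 : a0 ∈ D.L.img (C B) := by rw [← hyφ]; exact D.L.φ_mem_img hyB (le_N hy)
  simp only [VL4, List.mem_cons, List.not_mem_nil, or_false] at hv
  rcases hv with rfl | rfl | rfl | rfl
  · exact one_mem _
  · exact h1
  · exact h2
  · exact mul_mem h2 h1

/-- involutions of the image of `C B` are centralized only by permutations preserving `{4, 5}` -/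
theorem PP_of_comm [Finite G] {b : Perm (Fin 6)} (hb : b ∈ D.L.img (C B)) (hb1 : b ≠ 1)
    (hbb : b * b = 1) {w : Perm (Fin 6)} (hw : Perm.sign w = 1) (h : w * b = b * w) : PP w := by
  obtain ⟨k, hk, hkN, rfl, hkk⟩ := D.L.lift_inv D.te D.two.cj D.two.ne hb hbb
  obtain ⟨a, ha, rfl⟩ := D.L.lift w (mem_alternatingGroup.2 hw)
  have hk1 : k ≠ 1 := fun e => hb1 (by rw [e, D.L.one])
  exact D.PP_of_mem_N ha (D.te'.nrm hk hk1 hkk (D.L.comm_of D.te ha hkN h))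

/-- **elements of `C B` act as even permutations of `{0, 1, 2, 3}`** -/
theorem QQ_of_C [Finite G] {j : G} (hj : j ∈ C B) : QQ (D.L.φ j) := by
  by_contra hQ
  obtain ⟨i, -, v, hv, w, hw, ⟨h1, h2⟩, h3⟩ := bad _ (D.PP_of_C hj) hQ
  have h4 : D.L.φ j ^ i * v ∈ D.L.img (C B) :=
    mul_mem (pow_mem (D.L.φ_mem_img hj (D.two.leA hj)) i) (D.vl_img hv)
  exact (BL_prop w hw).2 (D.PP_of_comm h4 h1 h2 (BL_prop w hw).1 h3)

/-- elements of `A` whose label commutes with the labels of `B ⊓ C A` -/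
theorem comm_vl' {x : G} (hx : x ∈ A) (hxB : x ∈ N B) :
    D.L'.φ x * z0 = z0 * D.L'.φ x ∧ D.L'.φ x * a0 = a0 * D.L'.φ x := by
  obtain ⟨v, hv, hvA, hvφ⟩ := D.vl'.1
  obtain ⟨v', hv', hvA', hvφ'⟩ := D.vl'.2
  constructor
  · rw [← hvφ, D.L'.comm' hxB (le_N hv) (comm_of_C hvA hx).symm]
  · rw [← hvφ', D.L'.comm' hxB (le_N hv') (comm_of_C hvA' hx).symm]

/-- **even permutations of `{0, 1, 2, 3}` centralize `B`** -/
theorem mem_C_of_QQ {x : G} (hx : x ∈ A) (h : QQ (D.L.φ x)) : x ∈ C B := by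
  have key : ∀ y ∈ A, y ∈ C B → D.L.φ x = D.L.φ y → x ∈ C B := by
    intro y hy hyB he
    rw [D.L.inj D.te hx hy he]; exact hyB
  obtain ⟨v, hv, hvB, hvφ⟩ := D.vl.1
  obtain ⟨v', hv', hvB', hvφ'⟩ := D.vl.2
  rcases QQ_cases _ h with h1 | h1 | h1 | h1 | h1
  · exact key 1 (one_mem _) (one_mem _) (by rw [h1, D.L.one])
  · exact key v hv hvB (by rw [h1, hvφ])
  · exact key v' hv' hvB' (by rw [h1, hvφ'])
  · exact key (v' * v) (mul_mem hv' hv) (mul_mem hvB' hvB)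
      (by rw [h1, D.L.mul _ _ (le_N hv') (le_N hv), hvφ, hvφ'])
  · have hxB : x ∈ N B := D.mem_N_of_PP hx (QQ_PP h)
    have hc := D.comm_vl' hx hxB
    have h2 := cent_V _ hc.1 hc.2
    have hxxx : x * x * x = 1 := by
      apply D.L.eq_one D.te (mul_mem (mul_mem hx hx) hx)
      rw [D.L.mul _ _ (le_N (mul_mem hx hx)) (le_N hx), D.L.mul _ _ (le_N hx) (le_N hx), h1]
    have h3 : D.L'.φ x * D.L'.φ x * D.L'.φ x = 1 := by
      rw [← D.L'.mul _ _ hxB hxB, ← D.L'.mul _ _ (mul_mem hxB hxB) hxB, hxxx, D.L'.one]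
    rw [h2, one_mul] at h3
    exact (D.L'.ker x hxB).1 h3

theorem mem_C_iff [Finite G] {x : G} (hx : x ∈ A) : x ∈ C B ↔ QQ (D.L.φ x) :=
  ⟨fun h => D.QQ_of_C h, fun h => D.mem_C_of_QQ hx h⟩

/-- each element of `C B` has the label of an element of `A ⊓ C B` -/
theorem exists_n [Finite G] {j : G} (hj : j ∈ C B) :
    ∃ n ∈ A, n ∈ C B ∧ D.L.φ n = D.L.φ j := by
  have h := D.QQ_of_C hj
  obtain ⟨n, hn, hnφ⟩ := D.L.lift (D.L.φ j) (mem_alternatingGroup.2 h.1)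
  exact ⟨n, hn, D.mem_C_of_QQ hn (by rw [hnφ]; exact h), hnφ⟩

/-- commuting with all elements of `B ⊓ C A` -/
theorem cases_of_comm {m : G} (hm : m ∈ N B) (h : ∀ k ∈ B, k ∈ C A → m * k = k * m) :
    D.L'.φ m = 1 ∨ D.L'.φ m = s45 := by
  apply cent_Alt4
  · obtain ⟨k, hk, hkφ⟩ := D.L'.lift z0 z0_mem
    rw [← hkφ, D.L'.comm' hm (le_N hk) (h k hk (D.symm.mem_C_of_QQ hk (by
      show QQ (D.L'.φ k); rw [hkφ]; exact QQ_z0)))]
  · obtain ⟨k, hk, hkφ⟩ := D.L'.lift c0 c0_mem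
    rw [← hkφ, D.L'.comm' hm (le_N hk) (h k hk (D.symm.mem_C_of_QQ hk (by
      show QQ (D.L'.φ k); rw [hkφ]; exact QQ_c0)))]

/-- **the remaining elements of `A ⊓ N B` act on `B` as `(4 5)`** -/
theorem act_s45 [Finite G] {x : G} (hx : x ∈ A) (hP : PP (D.L.φ x)) (hQ : ¬ QQ (D.L.φ x)) :
    D.L'.φ x = s45 := by
  have hxB := D.mem_N_of_PP hx hP
  rcases D.cases_of_comm hxB (fun k _ hkC => (comm_of_C hkC hx).symm) with h | h
  · exact absurd (D.QQ_of_C ((D.L'.ker x hxB).1 h)) hQ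
  · exact h

/-- parity -/
theorem par [Finite G] {m : G} (hm : m ∈ N A) (hmB : m ∈ N B) (hs : Perm.sign (D.L'.φ m) = 1) :
    QQ (D.L.φ m) ∨ QQ (s45 * D.L.φ m) := by
  obtain ⟨b, hb, hbφ⟩ := D.L'.lift _ (mem_alternatingGroup.2 hs)
  have hk : b⁻¹ * m ∈ C B := by
    rw [← D.L'.ker _ (mul_mem (inv_mem (le_N hb)) hmB), D.L'.mul _ _ (inv_mem (le_N hb)) hmB,
      D.L'.inv (le_N hb), hbφ, inv_mul_cancel]
  have hkA : b⁻¹ * m ∈ N A := D.two.leA hk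
  have hbA : b ∈ N A := by
    have h1 := mul_mem hm (inv_mem hkA)
    rwa [show m * (b⁻¹ * m)⁻¹ = b by group] at h1
  have hbP : PP (D.L'.φ b) := D.symm.PP_of_mem_N hb hbA
  have hmb : D.L.φ m = D.L.φ b * D.L.φ (b⁻¹ * m) := by
    rw [← D.L.mul _ _ hbA hkA]; congr 1; group
  have hQk := D.QQ_of_C hk
  by_cases hQ : QQ (D.L'.φ b)
  · left
    have h1 : b ∈ C A := D.symm.mem_C_of_QQ hb hQ
    rw [hmb, (D.L.ker b hbA).2 h1, one_mul]
    exact hQk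
  · right
    have h1 : D.L.φ b = s45 := D.symm.act_s45 hb hbP hQ
    rw [hmb, h1, ← mul_assoc, show s45 * s45 = 1 by decide +kernel, one_mul]
    exact hQk

theorem exists_h [Finite G] : ∃ h ∈ A, D.L.φ h = g1 ∧ h ∈ N B ∧ D.L'.φ h = s45 := by
  obtain ⟨h, hh, hhφ⟩ := D.L.lift g1 (mem_alternatingGroup.2 gen_even.1)
  have hP : PP (D.L.φ h) := by rw [hhφ]; decide +kernel
  have hQ : ¬ QQ (D.L.φ h) := by rw [hhφ]; decide +kernel
  exact ⟨h, hh, hhφ, D.mem_N_of_PP hh hP, D.act_s45 hh hP hQ⟩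

/-- parity, converse -/
theorem par' [Finite G] {m : G} (hm : m ∈ N A) (hmB : m ∈ N B)
    (hs : Perm.sign (D.L'.φ m) = -1) : ¬ QQ (D.L.φ m) ∧ ¬ QQ (s45 * D.L.φ m) := by
  obtain ⟨h, hh, hhφ, hhB, hhs⟩ := D.exists_h
  have h1 := D.par (m := m * h) (mul_mem hm (le_N hh)) (mul_mem hmB hhB) (by
    rw [D.L'.mul _ _ hmB hhB, hhs, map_mul, hs]; decide +kernel)
  rw [D.L.mul _ _ hm (le_N hh), hhφ] at h1
  have hg : Perm.sign g1 = 1 := gen_even.1
  have hs45 : Perm.sign s45 = -1 := by decide +kernel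
  have e1 : (g1 : Perm (Fin 6)) 4 = 5 ∧ (g1 : Perm (Fin 6)) 5 = 4 := by decide +kernel
  have e2 : (s45 : Perm (Fin 6)) 4 = 5 ∧ (s45 : Perm (Fin 6)) 5 = 4 := by decide +kernel
  unfold QQ at h1 ⊢
  simp only [map_mul, Perm.mul_apply, hg, hs45, e1.1, e1.2, mul_one] at h1 ⊢
  constructor
  · rintro ⟨k1, k2, k3⟩
    rcases h1 with ⟨l1, l2, l3⟩ | ⟨l1, l2, l3⟩
    · rw [k3] at l2
      exact absurd l2 (by decide)
    · rw [k1] at l1
      exact absurd l1 (by decide)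
  · rintro ⟨k1, k2, k3⟩
    rcases h1 with ⟨l1, l2, l3⟩ | ⟨l1, l2, l3⟩
    · rw [l1] at k1
      exact absurd k1 (by decide)
    · rw [k3] at l2
      exact absurd l2 (by decide)

end SD

end Cfsg.Agent.StdAlt.Six
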