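import Cfsg.Agent.StdAlt.Six.PSix

/-!
# Four-groups in `A ∩ C B`

For a pair of type two, one of `A ∩ C B`, `B ∩ C A` contains a four-group; then all elements of `N A` act on `A` as
permutations of six points.
-/

set_option autoImplicit false
set_option linter.unusedSectionVars false

namespace Cfsg.Agent.StdAlt.Six

open Equiv Equiv.Perm Subgroup Cfsg.Agent.StdAlt.Conj

variable {G : Type*} [Group G] {A B : Subgroup G}

theorem exists_beta (e e' : A6 ≃* A) : ∃ β : MulAut A6, e' = tw β e := by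
  refine ⟨e.trans e'.symm, ?_⟩
  ext x : 1
  show e' x = e (e.symm (e' x))
  rw [MulEquiv.apply_symm_apply]

theorem sw_iff (e e' : A6 ≃* A) {g : G} : Sw e g ↔ Sw e' g := by
  obtain ⟨β, rfl⟩ := exists_beta e e'
  refine ⟨fun h => h.tw β, fun h => ?_⟩
  obtain ⟨γ, hγ⟩ := exists_beta (tw β e) e
  rw [hγ]
  exact h.tw γ

/-- a four-group in `A ∩ C B` -/
def VP (A B : Subgroup G) : Prop := ∃ n₁ n₂ : G, (n₁ ∈ A ∧ n₁ ∈ C B) ∧ (n₂ ∈ A ∧ n₂ ∈ C B) ∧
  n₁ ≠ 1 ∧ n₂ ≠ 1 ∧ n₁ ≠ n₂ ∧ n₁ * n₁ = 1 ∧ n₂ * n₂ = 1 ∧ n₁ * n₂ = n₂ * n₁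

/-- an involution different from a given one and commuting with it -/
theorem exists_comm_inv [Finite G] {K : Subgroup G} {v v' : G} (hv : v ∈ K) (hv' : v' ∈ K)
    (h1 : v ≠ 1) (h2 : v' ≠ 1) (h3 : v' ≠ v) (h4 : v * v = 1) (h5 : v' * v' = 1)
    (h6 : v' * v = v * v') {u : G} (hu : u ∈ K) (hu1 : u ≠ 1) (huu : u * u = 1) :
    ∃ y ∈ K, y ≠ 1 ∧ y * y = 1 ∧ u * y = y * u ∧ y ≠ u := by
  have h4K : 4 ∣ Nat.card K := by
    rw [← Pairs.card_four (htt := h4) (hyy := h5) (hty := h6.symm) h1 h2 (Ne.symm h3)]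
    apply card_dvd_of_le
    rintro x (rfl | rfl | rfl | rfl)
    · exact one_mem _
    · exact hv
    · exact hv'
    · exact mul_mem hv hv'
  -- if the centralizer of `u` has no further involution then `u` is the only involution of a Sylow subgroup
  have h4C : 4 ∣ Nat.card ↥(K ⊓ centralizer {u}) := Pairs.four_dvd_centralizer K h4K hu huu
  obtain ⟨Q, hQ, hVQ, hQK, hQc⟩ := Pairs.exists_two_subgroup K
    (Pairs.four v v' h4 h5 h6.symm) (Pairs.isPGroup_of_sq fun x hx => Pairs.four_sq hx) (by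
      rintro x (rfl | rfl | rfl | rfl)
      · exact one_mem _
      · exact hv
      · exact hv'
      · exact mul_mem hv hv')
  have hzp : IsPGroup 2 (zpowers u) := by
    apply IsPGroup.of_card (n := 1)
    rw [Nat.card_zpowers, pow_one]
    exact orderOf_eq_prime (by rw [sq]; exact huu) hu1
  obtain ⟨g, hg, hgu⟩ := Pairs.exists_conj_le K Q (zpowers u) hQ hzp hQK
    (by rw [zpowers_le]; exact hu) (by
      intro P hP hQP hPK
      apply (eq_of_le_of_card_ge hQP ?_).symm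
      obtain ⟨n, hn⟩ := IsPGroup.iff_card.1 hP
      have h7 : 2 ^ n ∣ Nat.card K := by rw [← hn]; exact card_dvd_of_le hPK
      have h8 := hQc n h7
      rw [← hn] at h8
      exact Nat.le_of_dvd Nat.card_pos h8)
  set w := g * u * g⁻¹ with hw
  have hwQ : w ∈ Q := hgu u (mem_zpowers u)
  have hww : w * w = 1 := by
    rw [hw, show g * u * g⁻¹ * (g * u * g⁻¹) = g * (u * u) * g⁻¹ by group, huu]; group
  -- it suffices to find the involution for `w`
  suffices hs : ∃ y ∈ K, y ≠ 1 ∧ y * y = 1 ∧ w * y = y * w ∧ y ≠ w by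
    obtain ⟨y, hy, y1, y2, y3, y4⟩ := hs
    refine ⟨g⁻¹ * y * g, mul_mem (mul_mem (inv_mem hg) hy) hg, ?_, ?_, ?_, ?_⟩
    · intro h
      apply y1
      rw [show y = g * (g⁻¹ * y * g) * g⁻¹ by group, h]; group
    · rw [show g⁻¹ * y * g * (g⁻¹ * y * g) = g⁻¹ * (y * y) * g by group, y2]; group
    · rw [show u = g⁻¹ * w * g by rw [hw]; group,
        show g⁻¹ * w * g * (g⁻¹ * y * g) = g⁻¹ * (w * y) * g by group, y3]; group
    · intro h
      apply y4
      rw [hw, ← h]; group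
  have : Nontrivial Q := by
    refine ⟨⟨v, hVQ (Or.inr (Or.inl rfl))⟩, 1, fun h => h1 (congrArg Subtype.val h)⟩
  have hcen : Nontrivial (center Q) := hQ.center_nontrivial
  have h2c : 2 ∣ Nat.card (center Q) := by
    obtain ⟨n, hn⟩ := IsPGroup.iff_card.1 (hQ.to_subgroup (center Q))
    have h9 : 1 < Nat.card (center Q) := Finite.one_lt_card
    rw [hn] at h9 ⊢
    exact dvd_pow_self 2 (by rintro rfl; simp at h9)
  obtain ⟨c, hc⟩ := exists_prime_orderOf_dvd_card' 2 h2c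
  have hcc : ((c : Q) : G) * ((c : Q) : G) = 1 := by
    have := pow_orderOf_eq_one c
    rw [hc, sq] at this
    exact congrArg (fun x : center Q => ((x : Q) : G)) this
  have hc1 : ((c : Q) : G) ≠ 1 := by
    intro h
    have : c = 1 := Subtype.ext (Subtype.ext h)
    rw [this, orderOf_one] at hc
    exact absurd hc (by norm_num)
  have hcQ : ∀ x ∈ Q, x * ((c : Q) : G) = ((c : Q) : G) * x := by
    intro x hx
    exact congrArg Subtype.val (mem_center_iff.1 c.2 ⟨x, hx⟩)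
  by_cases hcw : ((c : Q) : G) = w
  · by_cases hvw : v = w
    · refine ⟨v', hv', h2, h5, ?_, ?_⟩
      · rw [← hvw, h6]
      · rw [← hvw]; exact h3
    · refine ⟨v, hv, h1, h4, ?_, hvw⟩
      rw [← hcw]
      exact (hcQ v (hVQ (Or.inr (Or.inl rfl)))).symm
  · exact ⟨_, hQK (c : Q).2, hc1, hcc, hcQ w hwQ, hcw⟩

theorem cm_val (w y : A6) : ((w * (y * w * y⁻¹)⁻¹ : A6) : Perm (Fin 6)) = cm w y := by
  simp only [val_mul, val_inv, cm]
  group

/-- **the basic alternative** for two commuting involutions of `C B`, one of them in `A` -/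
theorem mt [Finite G] (h : Two A B) (e : A6 ≃* A) {u y : G} (hu : u ∈ A) (huB : u ∈ C B)
    (hu1 : u ≠ 1) (huu : u * u = 1) (hy : y ∈ C B) (hy1 : y ≠ 1) (hyy : y * y = 1)
    (hc : u * y = y * u) (hne : y ≠ u) :
    VP A B ∨ (Sw e y ∧ ∃ f ∈ A, f ∈ C B ∧ f * f = u) := by
  obtain ⟨w, hw⟩ := exists_tw e hu hu1 huu
  rw [sw_iff e (tw (MulAut.conj w) e)]
  generalize tw (MulAut.conj w) e = e at hw
  have hyA : y ∈ N A := h.leA hy
  have huA : u ∈ N A := le_N hu
  obtain ⟨α, hα⟩ := exists_act e hyA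
  have hua : Act e u (MulAut.conj Z0) := by rw [← hw]; exact act_emb e Z0
  have hfix : α Z0 = Z0 := hα.fix (by rw [hw, hc])
  have hyC : y ∉ C A := not_mem h.teA h.cj h.ne hy hy1 hyy
  by_cases hns : NS α
  · left
    obtain ⟨σ, rfl⟩ := ns_iff.1 hns
    have hσσ : σ * σ = 1 := by
      apply pc_inj
      rw [map_mul, map_one]
      exact Act.unique (hα.mul hα) (by rw [hyy]; exact act_one e)
    have hσ1 : σ ≠ 1 := by
      rintro rfl
      exact hyC (hα.mem_C (map_one _))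
    have hyu : y * u ≠ 1 := by
      intro h1
      apply hne
      rw [mul_eq_one_iff_eq_inv] at h1
      rw [h1]; exact inv_eq_of_mul_eq_one_left huu
    have hyuyu : y * u * (y * u) = 1 := by
      rw [mul_assoc, ← mul_assoc u, hc, mul_assoc y, huu, mul_one, hyy]
    have hyuB : y * u ∈ C B := mul_mem hy huB
    have hyua : Act e (y * u) (pc σ * MulAut.conj Z0) := hα.mul hua
    have hz0 : pc z0 = MulAut.conj Z0 := pc_val Z0
    have hσz : σ ≠ z0 := by
      rintro rfl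
      refine not_mem h.teA h.cj h.ne hyuB hyu hyuyu (hyua.mem_C ?_)
      rw [hz0, ← map_mul, Z0_sq, map_one]
    have hσc : σ * z0 = z0 * σ := by
      have h1 := congrArg (fun x : A6 => (x : Perm (Fin 6))) hfix
      simp only [pc_apply, val_Z0] at h1
      exact mul_inv_eq_iff_eq_mul.1 h1
    obtain ⟨w₁, y₁, w₂, y₂, s₁, s₂, hy₁, hy₂, hw₁, hw₂, k₁, k₂, k₃, l₁, l₂, l₃⟩ :=
      two_inv σ hσσ hσ1 hσz hσc
    have key : ∀ w y' : Perm (Fin 6), Perm.sign w = 1 → (y' = z0 ∨ y' = σ) →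
        (w * z0 = z0 * w ∨ w * σ = σ * w ∨ w * (σ * z0) = (σ * z0) * w) →
        ∃ n : A6, (n : Perm (Fin 6)) = cm w y' ∧ emb e n ∈ C B := by
      intro w y' hsw hy' hcw
      have haux : ∀ j ∈ C B, ∀ τ : Perm (Fin 6), Act e j (pc τ) → y' = τ →
          ∃ n : A6, (n : Perm (Fin 6)) = cm w y' ∧ emb e n ∈ C B := by
        intro j hj τ hτ hy''
        set W : A6 := ⟨w, Equiv.Perm.mem_alternatingGroup.2 hsw⟩ with hW
        have hval : ((W * (pc τ W)⁻¹ : A6) : Perm (Fin 6)) = cm w y' := by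
          rw [val_mul, val_inv, pc_apply, hy'']
          simp only [cm, hW]
          group
        refine ⟨W * (pc τ W)⁻¹, hval, ?_⟩
        rcases hcw with hcw | hcw | hcw
        · refine comm_emb_mem h.teA h.cj h.ne e huB hu1 huu (a := W) hua ?_ hj (h.leA hj) hτ
          rw [← hz0]
          exact Subtype.ext (by rw [pc_apply]; exact mul_inv_eq_iff_eq_mul.2 hcw.symm)
        · refine comm_emb_mem h.teA h.cj h.ne e hy hy1 hyy (a := W) hα ?_ hj (h.leA hj) hτ
          exact Subtype.ext (by rw [pc_apply]; exact mul_inv_eq_iff_eq_mul.2 hcw.symm)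
        · refine comm_emb_mem h.teA h.cj h.ne e hyuB hyu hyuyu (a := W) hyua ?_ hj (h.leA hj) hτ
          rw [← hz0, ← map_mul]
          exact Subtype.ext (by rw [pc_apply]; exact mul_inv_eq_iff_eq_mul.2 hcw.symm)
      rcases hy' with hy' | hy'
      · exact haux u huB z0 (by rw [hz0]; exact hua) hy'
      · exact haux y hy σ hα hy'
    obtain ⟨n₁, hn₁, hn₁B⟩ := key w₁ y₁ s₁ hy₁ hw₁
    obtain ⟨n₂, hn₂, hn₂B⟩ := key w₂ y₂ s₂ hy₂ hw₂
    refine ⟨emb e n₁, emb e n₂, ⟨emb_mem e _, hn₁B⟩, ⟨emb_mem e _, hn₂B⟩, ?_, ?_, ?_, ?_, ?_, ?_⟩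
    · intro h1
      rw [← map_one (emb e)] at h1
      exact k₁ (by rw [← hn₁, emb_inj h1]; rfl)
    · intro h1
      rw [← map_one (emb e)] at h1
      exact k₂ (by rw [← hn₂, emb_inj h1]; rfl)
    · intro h1
      exact k₃ (by rw [← hn₁, ← hn₂, emb_inj h1])
    · rw [← map_mul, ← map_one (emb e)]
      congr 1
      exact Subtype.ext (by rw [val_mul, hn₁, l₁]; rfl)
    · rw [← map_mul, ← map_one (emb e)]
      congr 1
      exact Subtype.ext (by rw [val_mul, hn₂, l₂]; rfl)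
    · rw [← map_mul, ← map_mul]
      congr 1
      exact Subtype.ext (by rw [val_mul, val_mul, hn₁, hn₂, l₃])
  · right
    refine ⟨⟨α, hα, hns⟩, ?_⟩
    have hinv : ∀ x, α (α x) = x := by
      have : α * α = 1 := Act.unique (hα.mul hα) (by rw [hyy]; exact act_one e)
      intro x
      exact congrArg (fun f : MulAut A6 => f x) this
    obtain ⟨f, hf, hff, -, -⟩ := exists_f hfix hns hinv
    refine ⟨emb e f, emb_mem e f, ?_, by rw [← map_mul, hff, hw]⟩
    rw [hf]
    refine comm_emb_mem h.teA h.cj h.ne e huB hu1 huu (a := A0) hua ?_ hy hyA hα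
    rw [MulAut.conj_apply, ← A0_Z0, mul_inv_cancel_right]

theorem emb_sq {e : A6 ≃* A} {x : A6} (h : x * x = 1) : emb e x * emb e x = 1 := by
  rw [← map_mul, h, map_one]

theorem emb_ne {e : A6 ≃* A} {x : A6} (h : x ≠ 1) : emb e x ≠ 1 := by
  intro h1
  rw [← map_one (emb e)] at h1
  exact h (emb_inj h1)

/-- **a four-group exists on one side** -/
theorem exists_vp [Finite G] (h : Two A B) (e : A6 ≃* A) (e' : A6 ≃* B) (hF : Two.HasFour A) :
    VP A B ∨ VP B A := by
  by_contra hcon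
  rw [not_or] at hcon
  have hFB := hF.of_cj h.cj
  have h4 : ∀ {A' : Subgroup G}, Two.HasFour A' → 4 ∣ Nat.card (C A') := by
    rintro A' ⟨v, hv, v', hv', h1, h2, h3, h4, h5, h6⟩
    rw [← Pairs.card_four (htt := h4) (hyy := h5) (hty := h6.symm) h1 h2 (Ne.symm h3)]
    apply card_dvd_of_le
    rintro x (rfl | rfl | rfl | rfl)
    · exact one_mem _
    · exact hv
    · exact hv'
    · exact mul_mem hv hv'
  obtain ⟨u, hu, huB, hu1, huu⟩ := p6 h.teA h.cj h.ne e (by rw [inf_eq_left.2 h.leA]; exact h4 hFB)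
  obtain ⟨u', hu', huA', hu1', huu'⟩ := p6 h.teB h.cj.symm h.ne.symm e'
    (by rw [inf_eq_left.2 h.leB]; exact h4 hF)
  obtain ⟨v, hv, v', hv', k1, k2, k3, k4, k5, k6⟩ := hFB
  obtain ⟨y, hy, hy1, hyy, hyu, hyne⟩ := exists_comm_inv hv hv' k1 k2 k3 k4 k5 k6 huB hu1 huu
  rcases mt h e hu huB hu1 huu hy hy1 hyy hyu hyne with hV | ⟨hsw, f, hf, hfB, hff⟩
  · exact hcon.1 hV
  -- labels
  obtain ⟨w, hw⟩ := exists_tw e hu hu1 huu
  obtain ⟨w', hw'⟩ := exists_tw e' hu' hu1' huu'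
  rw [sw_iff e (tw (MulAut.conj w) e)] at hsw
  generalize tw (MulAut.conj w) e = e at hw hsw
  generalize tw (MulAut.conj w') e' = e' at hw'
  have hua : Act e u (MulAut.conj Z0) := by rw [← hw]; exact act_emb e Z0
  -- `A ⊓ B = 1`
  have hAB : ∀ x ∈ A, x ∈ B → x = 1 := by
    intro x hxA hxB
    have hxf : x * f = f * x := (comm_of_C hfB hxB).symm
    obtain ⟨q, rfl⟩ := exists_emb e hxA
    obtain ⟨g, rfl⟩ := exists_emb e hf
    have hgg : g * g = Z0 := emb_inj (e := e) (by rw [map_mul, hff, hw])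
    have hqg : q * g = g * q := emb_inj (e := e) (by rw [map_mul, map_mul, hxf])
    have hZB : emb e Z0 ∈ C B := by rw [hw]; exact huB
    have hFB : emb e F0 ∈ C B ∧ q * F0 = F0 * q := by
      rcases sq_eq_z0 g (sign_val g) (congrArg Subtype.val hgg) with hg | hg
      · have : g = F0 := Subtype.ext hg
        rw [← this]
        exact ⟨hfB, hqg⟩
      · have hg' : g = F0 * Z0 := Subtype.ext hg
        have hF : F0 = g * Z0 := by rw [hg', mul_assoc, Z0_sq, mul_one]
        refine ⟨?_, ?_⟩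
        · rw [hF, map_mul]
          exact mul_mem hfB hZB
        · have hqZ : q * Z0 = Z0 * q := by
            rw [← hgg, ← mul_assoc, hqg, mul_assoc, hqg, mul_assoc]
          rw [hF, ← mul_assoc, hqg, mul_assoc, hqZ, mul_assoc]
    have hqB : emb e q ∈ C B := by
      rcases cent_f0 q (sign_val q) (congrArg Subtype.val hFB.2) with h1 | h1 | h1 | h1
      · rw [show q = 1 from Subtype.ext h1, map_one]; exact one_mem _
      · rw [show q = F0 from Subtype.ext h1]; exact hFB.1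
      · rw [show q = Z0 from Subtype.ext h1]; exact hZB
      · rw [show q = F0 * Z0 from Subtype.ext h1, map_mul]; exact mul_mem hFB.1 hZB
    exact h.teB.disj _ hxB hqB
  set a' := emb e' A0 with ha'
  have ha'B : a' ∈ B := emb_mem e' _
  have ha'1 : a' ≠ 1 := emb_ne A0_ne
  have ha'2 : a' * a' = 1 := emb_sq A0_sq
  have ha'u' : a' * u' = u' * a' := by rw [← hw', ha', ← map_mul, ← map_mul, A0_Z0]
  have ha'ne : a' ≠ u' := by
    rw [← hw', ha']
    exact fun h1 => A0_ne_Z0 (emb_inj h1)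
  have ha'A : a' ∈ N A := h.teA.nrm huA' hu1' huu' ha'u'
  obtain ⟨α, hα⟩ := exists_act e ha'A
  have hfix : ∀ p : A6, p * Z0 = Z0 * p → α p = p := by
    intro p hp
    apply hα.fix
    have hpu : emb e p * u = u * emb e p := by rw [← hw, ← map_mul, ← map_mul, hp]
    have hpB : emb e p ∈ N B := h.teB.nrm huB hu1 huu hpu
    have h1 := hAB (emb e p * a' * (emb e p)⁻¹ * a'⁻¹) (by
      rw [show emb e p * a' * (emb e p)⁻¹ * a'⁻¹ = emb e p * (a' * (emb e p)⁻¹ * a'⁻¹) by group]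
      exact mul_mem (emb_mem e _) (conj_mem ha'A (inv_mem (emb_mem e _))))
      (mul_mem (conj_mem hpB ha'B) (inv_mem ha'B))
    rw [mul_inv_eq_one, mul_inv_eq_iff_eq_mul] at h1
    exact h1.symm
  obtain ⟨σ, hσ, hσα⟩ := act_of_fix hfix
  have hαpc : α = pc σ := by
    ext x : 1
    exact Subtype.ext (by rw [hσα, pc_apply])
  obtain ⟨β, hβ, hβns⟩ := hsw
  have hodd : ∀ σ : Perm (Fin 6), Perm.sign σ = -1 → α = pc σ → False := by
    intro σ hσ h1
    exact hβns (ns_of_comm hσ ha'2 (h1 ▸ hα) (comm_of_C hy ha'B) hβ)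
  rcases hσ with rfl | rfl | rfl | rfl
  · have hC : a' ∈ C A := hα.mem_C (by rw [hαpc, map_one])
    exact hcon.2 ⟨u', a', ⟨hu', huA'⟩, ⟨ha'B, hC⟩, hu1', ha'1, Ne.symm ha'ne, huu', ha'2,
      ha'u'.symm⟩
  · have hz0 : pc z0 = MulAut.conj Z0 := pc_val Z0
    have hau : a' * u = u * a' := by
      rw [← hw]
      exact hα.comm_emb (hfix Z0 rfl)
    have hC : a' * u ∈ C A := (hα.mul hua).mem_C (by rw [hαpc, hz0, conj_Z0_sq])
    have hyy'' : a' * u * (a' * u) = 1 := by
      rw [mul_assoc, ← mul_assoc u, ← hau, mul_assoc a', huu, mul_one, ha'2]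
    have h1 : a' * u ≠ 1 := by
      intro h1
      rw [mul_eq_one_iff_eq_inv] at h1
      exact ha'1 (hAB a' (by rw [h1]; exact inv_mem hu) ha'B)
    have h2 : u' * (a' * u) = a' * u * u' := by
      rw [← mul_assoc, ← ha'u', mul_assoc, mul_assoc, comm_of_C huA' hu]
    have h3 : a' * u ≠ u' := by
      intro h3
      apply hu1
      apply hAB u hu
      rw [show u = a'⁻¹ * (a' * u) by group, h3]
      exact mul_mem (inv_mem ha'B) hu'
    rcases mt h.symm e' hu' huA' hu1' huu' hC h1 hyy'' h2 h3 with hV | ⟨⟨γ, hγ, hγns⟩, -⟩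
    · exact hcon.2 hV
    · apply hγns
      have h5 : Act e' (a' * u) (MulAut.conj A0 * 1) := (act_emb e' A0).mul (act_one_iff.2 huB)
      rw [Act.unique hγ h5, mul_one]
      exact NS.conj A0
  · exact hodd _ (by decide +kernel) hαpc
  · exact hodd _ (by decide +kernel) hαpc

/-- elements `q` with `emb e q` in a subgroup -/
theorem mem_comap' {e : A6 ≃* A} {K : Subgroup G} {x : A6} : x ∈ K.comap (emb e) ↔ emb e x ∈ K :=
  Iff.rfl

/-- **no element acts as an exceptional automorphism** -/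
theorem nosw [Finite G] (h : Two A B) (e : A6 ≃* A) (hV : VP A B) (g : G) :
    ¬ Sw e g := by
  obtain ⟨n₁, n₂, ⟨h1, h1B⟩, ⟨h2, h2B⟩, h3, h4, h5, h6, h7, h8⟩ := hV
  obtain ⟨w, hw⟩ := exists_tw e h1 h3 h6
  rw [sw_iff e (tw (MulAut.conj w) e)]
  generalize tw (MulAut.conj w) e = e at hw
  rintro ⟨α, hα, hns⟩
  obtain ⟨c, hc⟩ := exists_conj_Z0 (x := α Z0) (by rw [← map_mul, Z0_sq, map_one]) (ne_map Z0_ne)
  have hα' : Act e (emb e c * g) (MulAut.conj c * α) := (act_emb e c).mul hα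
  have hns' : ¬ NS (MulAut.conj c * α) := fun h' => hns ((ns_mul_conj_iff c).1 h')
  have hfix : (MulAut.conj c * α) Z0 = Z0 := by rw [MulAut.mul_apply, MulAut.conj_apply, hc]
  set g' := emb e c * g with hg'
  set α' := MulAut.conj c * α with hα'def
  have hg'B : g' ∈ N B := h.teB.nrm h1B h3 h6 (by rw [← hw]; exact hα'.comm_emb hfix)
  obtain ⟨q, rfl⟩ := exists_emb e h2
  have hqZ : q * Z0 = Z0 * q := emb_inj (e := e) (by rw [map_mul, map_mul, hw, h8])
  have hqq : q * q = 1 := emb_inj (e := e) (by rw [map_mul, h7, map_one])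
  have hq1 : q ≠ 1 := fun h' => h4 (by rw [h', map_one])
  have hqne : q ≠ Z0 := fun h' => h5 (by rw [h', hw])
  set K : Subgroup A6 := (C B).comap (emb e) with hK
  have hZK : Z0 ∈ K := by rw [hK, mem_comap', hw]; exact h1B
  have hqK : q ∈ K := h2B
  have hαK : ∀ x ∈ K, α' x ∈ K := by
    intro x hx
    rw [hK, mem_comap', ← hα']
    exact conj_mem_C hg'B hx
  have hmul : ∀ x, x * Z0 ∈ K → x ∈ K := by
    intro x hx
    have := mul_mem hx (inv_mem hZK)
    rwa [mul_inv_cancel_right] at this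
  have hAB : A0 ∈ K ∧ B0 ∈ K := by
    have k1 : A0 ∈ K → B0 ∈ K := by
      intro h'
      have := hαK _ h'
      rcases cases_a0 hfix hns' with e1 | e1 <;> rw [e1] at this
      · exact this
      · exact hmul _ this
    have k2 : B0 ∈ K → A0 ∈ K := by
      intro h'
      have := hαK _ h'
      rcases cases_b0 hfix hns' with e1 | e1 <;> rw [e1] at this
      · exact this
      · exact hmul _ this
    rcases cases_inv hqZ hqq hq1 hqne with rfl | rfl | rfl | rfl
    · exact ⟨hqK, k1 hqK⟩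
    · exact ⟨hmul _ hqK, k1 (hmul _ hqK)⟩
    · exact ⟨k2 hqK, hqK⟩
    · exact ⟨k2 (hmul _ hqK), hmul _ hqK⟩
  have hcent : ∀ k ∈ K, k ≠ 1 → k * k = 1 → ∀ x : A6, x * k = k * x → emb e x ∈ N B := by
    intro k hk hk1 hkk x hx
    refine h.teB.nrm hk (emb_ne hk1) (emb_sq hkk) ?_
    rw [← map_mul, ← map_mul, hx]
  have htop : (N B).comap (emb e) = ⊤ := by
    apply gen_top
    · intro x hx
      exact hcent A0 hAB.1 A0_ne A0_sq x hx
    · intro x hx
      exact hcent B0 hAB.2 B0_ne B0_sq x hx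
  have hnorm : K.Normal := by
    constructor
    intro k hk x
    have hx : x ∈ (N B).comap (emb e) := by rw [htop]; exact mem_top _
    rw [hK, mem_comap', map_mul, map_mul, map_inv]
    exact conj_mem_C hx hk
  have hsimple : IsSimpleGroup A6 :=
    alternatingGroup.isSimpleGroup (by rw [Nat.card_eq_fintype_card, Fintype.card_fin]; omega)
  rcases hnorm.eq_bot_or_eq_top with h' | h'
  · rw [h', mem_bot] at hZK
    exact Z0_ne hZK
  · apply h.teA.ncomm B h.cj
    intro a ha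
    obtain ⟨x, rfl⟩ := exists_emb e ha
    have hx : x ∈ K := by rw [h']; exact mem_top _
    exact hx

/-- the standard four-group of the labelling lies in `C B` -/
def VL (L : Lab A (Fin 6)) (B : Subgroup G) : Prop :=
  (∃ v ∈ A, v ∈ C B ∧ L.φ v = z0) ∧ ∃ v ∈ A, v ∈ C B ∧ L.φ v = a0

theorem exists_lab [Finite G] (h : Two A B) (e : A6 ≃* A) (hV : VP A B) :
    ∃ L : Lab A (Fin 6), VL L B := by
  have hnosw := nosw h e hV
  obtain ⟨n₁, n₂, ⟨h1, h1B⟩, ⟨h2, h2B⟩, h3, h4, h5, h6, h7, h8⟩ := hV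
  -- a good labelling
  have hgood : ∃ e' : A6 ≃* A, emb e' Z0 ∈ C B ∧ emb e' A0 ∈ C B := by
    obtain ⟨w, hw⟩ := exists_tw e h1 h3 h6
    generalize tw (MulAut.conj w) e = e at hw
    obtain ⟨q, rfl⟩ := exists_emb e h2
    have hqZ : q * Z0 = Z0 * q := emb_inj (e := e) (by rw [map_mul, map_mul, hw, h8])
    have hqq : q * q = 1 := emb_inj (e := e) (by rw [map_mul, h7, map_one])
    have hq1 : q ≠ 1 := fun h' => h4 (by rw [h', map_one])
    have hqne : q ≠ Z0 := fun h' => h5 (by rw [h', hw])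
    have hZ : emb e Z0 ∈ C B := by rw [hw]; exact h1B
    have hmul : ∀ x, emb e (x * Z0) ∈ C B → emb e x ∈ C B := by
      intro x hx
      have := mul_mem hx (inv_mem hZ)
      rwa [map_mul, mul_inv_cancel_right] at this
    obtain ⟨θ, hθns, hθ⟩ := exists_theta'
    have hB0 : emb e B0 ∈ C B → emb (tw θ e) Z0 ∈ C B ∧ emb (tw θ e) A0 ∈ C B := by
      intro hb
      have e1 : emb (tw θ e) Z0 = emb e Z0 := by
        have := emb_tw' θ e Z0
        rwa [hθ] at this
      refine ⟨by rw [e1]; exact hZ, ?_⟩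
      have e2 := emb_tw' θ e B0
      rcases cases_b0 hθ hθns with h' | h'
      · rw [h'] at e2
        rw [e2]; exact hb
      · rw [h', map_mul, e1] at e2
        have e3 : emb (tw θ e) A0 = emb e B0 * (emb e Z0)⁻¹ := by rw [← e2]; group
        rw [e3]
        exact mul_mem hb (inv_mem hZ)
    rcases cases_inv hqZ hqq hq1 hqne with rfl | rfl | rfl | rfl
    · exact ⟨e, hZ, h2B⟩
    · exact ⟨e, hZ, hmul _ h2B⟩
    · exact ⟨_, hB0 h2B⟩
    · exact ⟨_, hB0 (hmul _ h2B)⟩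
  obtain ⟨e', hZ, hA⟩ := hgood
  obtain ⟨L, hL⟩ := Lab.exists_of_induced 6 (by norm_num) e'.symm (by
    intro g hg
    obtain ⟨α, hα⟩ := exists_act e' hg
    have hns : NS α := by
      by_contra h'
      exact hnosw g ((sw_iff e' e).1 ⟨α, hα, h'⟩)
    obtain ⟨σ, hσ⟩ := hns
    refine ⟨σ, fun a => ?_⟩
    rw [← hσ]
    congr 1
    rw [MulEquiv.symm_apply_eq]
    apply Subtype.ext
    have := hα (e'.symm a)
    have h9 : emb e' (e'.symm a) = a := by
      show ((e' (e'.symm a) : A) : G) = a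
      rw [MulEquiv.apply_symm_apply]
    rw [h9] at this
    exact this)
  refine ⟨L, ⟨emb e' Z0, emb_mem e' _, hZ, ?_⟩, ⟨emb e' A0, emb_mem e' _, hA, ?_⟩⟩
  · have := hL (e' Z0)
    rw [MulEquiv.symm_apply_apply] at this
    exact this
  · have := hL (e' A0)
    rw [MulEquiv.symm_apply_apply] at this
    exact this

end Cfsg.Agent.StdAlt.Six
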